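import Groth.Agent.Lib.CohAmple24.Top
import Groth.Agent.Lib.QCoh.SupportExact
import Groth.Agent.Lib.RatFun.Basic
import Groth.Agent.Lib.DimIneq9.Bound
import Groth.Agent.Lib.OX.StalkTensor

/-!
# Devissage at the generic points for vanishing in top degree
-/

set_option autoImplicit false
set_option backward.isDefEq.respectTransparency false
set_option linter.style.haveILetI false

universe u

open AlgebraicGeometry CategoryTheory CategoryTheory.Limits TopologicalSpace Opposite MonoidalCategory

noncomputable section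

namespace GrothLib.CohAmple24

variable {Z : Scheme.{u}}

theorem finite_generic [IsNoetherian Z] : {ξ : Z | Order.coheight ξ = 0}.Finite := by
  refine Set.Finite.of_finite_image (f := fun ξ => closure ({ξ} : Set Z)) ?_ ?_
  · refine NoetherianSpace.finite_irreducibleComponents.subset ?_
    rintro _ ⟨ξ, hξ, rfl⟩
    exact DimIneq9.closure_mem_irreducibleComponents_of_maximal fun z hz =>
      (hz.antisymm ((Order.coheight_eq_zero.1 hξ) hz)).eq
  · exact fun a _ b _ h =>
      ((specializes_iff_closure_subset.2 h.ge).antisymm (specializes_iff_closure_subset.2 h.le)).eq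

/-- Length of the stalk at a point, as a number. -/
def len (F : Z.Modules) (ξ : Z) : ℕ := (Module.length (Z.presheaf.stalk ξ) ((OX.stalk ξ).obj F)).toNat

theorem isArtinian_generic [IsLocallyNoetherian Z] {ξ : Z} (hξ : Order.coheight ξ = 0) :
    IsArtinianRing (Z.presheaf.stalk ξ) :=
  RatFun.isArtinianRing_stalk_of_isMax fun _ hy => (Order.coheight_eq_zero.1 hξ) hy

theorem finite_OX_stalk {F : Z.Modules} (hF : Coh.IsCoh F) (ξ : Z) :
    Module.Finite (Z.presheaf.stalk ξ) ((OX.stalk ξ).obj F) :=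
  QuasiFlat.finite_stalk F hF ξ

theorem length_ne_top [IsLocallyNoetherian Z] {ξ : Z} (hξ : Order.coheight ξ = 0) {F : Z.Modules}
    (hF : Coh.IsCoh F) : Module.length (Z.presheaf.stalk ξ) ((OX.stalk ξ).obj F) ≠ ⊤ := by
  haveI := isArtinian_generic hξ
  haveI := finite_OX_stalk hF ξ
  rw [Module.length_ne_top_iff, isFiniteLength_iff_isNoetherian_isArtinian]
  exact ⟨inferInstance, inferInstance⟩

theorem len_cokernel [IsLocallyNoetherian Z] {ξ : Z} (hξ : Order.coheight ξ = 0) {S F : Z.Modules}
    (hF : Coh.IsCoh F) (s : S ⟶ F) :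
    len (cokernel s) ξ ≤ len F ξ ∧ ((OX.stalk ξ).map s ≠ 0 → len (cokernel s) ξ < len F ξ) := by
  have hS : (ShortComplex.mk s (cokernel.π s) (cokernel.condition s)).Exact := ShortComplex.exact_cokernel s
  let π := ((OX.stalk ξ).map (cokernel.π s)).hom
  have hsurj : Function.Surjective π := (ModuleCat.epi_iff_surjective _).1 inferInstance
  have hadd := Module.length_eq_add_of_exact (LinearMap.ker π).subtype π (Submodule.subtype_injective _) hsurj
    (LinearMap.exact_subtype_ker_map π)
  have htop := length_ne_top hξ hF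
  have h1 : Module.length (Z.presheaf.stalk ξ) (LinearMap.ker π) ≠ ⊤ := fun h => htop (by rw [hadd, h, top_add])
  have h2 : Module.length (Z.presheaf.stalk ξ) ((OX.stalk ξ).obj (cokernel s)) ≠ ⊤ :=
    fun h => htop (by rw [hadd, h, add_top])
  have heq : len F ξ = (Module.length (Z.presheaf.stalk ξ) (LinearMap.ker π)).toNat + len (cokernel s) ξ := by
    rw [len, len, hadd, ENat.toNat_add h1 h2]
  refine ⟨by omega, fun hne => ?_⟩
  have hpos : (Module.length (Z.presheaf.stalk ξ) (LinearMap.ker π)).toNat ≠ 0 := by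
    intro h0
    rcases ENat.toNat_eq_zero.1 h0 with h0 | h0
    · apply hne
      haveI := Module.length_eq_zero_iff.1 h0
      ext v
      have hv : ((OX.stalk ξ).map s).hom v ∈ LinearMap.ker π := by
        have hc := congrArg (fun t => (OX.stalk ξ).map t) (cokernel.condition s)
        rw [Functor.map_comp, Functor.map_zero] at hc
        exact LinearMap.mem_ker.2 (congrArg (fun t => t.hom v) hc)
      exact congrArg Subtype.val (Subsingleton.elim (⟨_, hv⟩ : LinearMap.ker π) 0)
    · exact h1 h0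
  omega

theorem isZero_stalk_tensor {F E : Z.Modules} {x : Z} (h : IsZero ((OX.stalk x).obj F)) :
    IsZero ((OX.stalk x).obj (CohB1.tensorMod F E)) := by
  refine IsZero.of_iso ?_ (OX.stalkTensorBiIso x F E)
  exact (MonoidalCategory.tensorRight ((OX.stalk x).obj E)).map_isZero h

/-- The class of modules whose twists have no top cohomology in the long run. -/
def TopVanish (d : ℕ) (E : ℕ → Z.Modules) (F : Z.Modules) : Prop :=
  ∃ n₀ : ℕ, ∀ n, n₀ ≤ n → Subsingleton (Coh.HH Z (CohB1.tensorMod F (E n)) d)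

theorem topVanish_of_small [IsNoetherian Z] {d : ℕ} (hd : 1 ≤ d) (hdim : topologicalKrullDim Z = (d : WithBot ℕ∞))
    (E : ℕ → Z.Modules) {F : Z.Modules} (hF : Coh.IsCoh F)
    (h : ∀ ξ : Z, Order.coheight ξ = 0 → IsZero ((OX.stalk ξ).obj F)) : TopVanish d E F := by
  refine ⟨0, fun n _ => ?_⟩
  let V : Z.Opens := ⟨(CohB1.support F)ᶜ, (QCoh.isClosed_support_of_isCoh hF).isOpen_compl⟩
  refine subsingleton_HH_of_stalks V d 1 (d - 1) hdim (fun x hx => ?_) (by omega) _ (fun x hx => ?_) d (by omega)
  · refine Order.one_le_iff_ne_zero.2 fun h0 => hx fun hxs => hxs ?_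
    exact ModuleCat.isZero_iff_subsingleton.1 (h x h0)
  · exact isZero_stalk_tensor (@ModuleCat.isZero_of_subsingleton _ _ _ (QCoh.stalk_subsingleton_of_notMem hx))

theorem topVanish_of_map [IsNoetherian Z] {d : ℕ} (hdim : topologicalKrullDim Z = (d : WithBot ℕ∞))
    (E : ℕ → Z.Modules) {S F : Z.Modules} (s : S ⟶ F) (hS : TopVanish d E S)
    (hQ : TopVanish d E (cokernel s)) : TopVanish d E F := by
  obtain ⟨a, ha⟩ := hS
  obtain ⟨b, hb⟩ := hQ
  refine ⟨max a b, fun n hn => ?_⟩
  haveI : PreservesColimitsOfSize.{u, u} ((DCoh.tensorBi (X := Z)).flip.obj (E n)) :=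
    OX.preservesColimitsOfSize_tensorBi_flip_obj (E n)
  haveI : PreservesColimitsOfSize.{0, 0} ((DCoh.tensorBi (X := Z)).flip.obj (E n)) :=
    preservesColimitsOfSize_shrink.{0, u, 0, u} _
  haveI : ((DCoh.tensorBi (X := Z)).flip.obj (E n)).PreservesZeroMorphisms := by
    haveI : ((DCoh.tensorBi (X := Z)).flip.obj (E n)).Additive := Functor.additive_of_preserves_binary_products _
    infer_instance
  refine subsingleton_of_coker hdim.le (((DCoh.tensorBi (X := Z)).flip.obj (E n)).map s)
    (ha n ((le_max_left a b).trans hn)) ?_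
  exact (subsingleton_of_target (PreservesCokernel.iso ((DCoh.tensorBi (X := Z)).flip.obj (E n)) s) d).1
    (hb n ((le_max_right a b).trans hn))

/-- **Devissage.** -/
theorem topVanish_all [IsNoetherian Z] {d : ℕ} (hd : 1 ≤ d) (hdim : topologicalKrullDim Z = (d : WithBot ℕ∞))
    (E : ℕ → Z.Modules)
    (h : ∀ F : Z.Modules, Coh.IsCoh F → ∀ ξ : Z, Order.coheight ξ = 0 → ¬ IsZero ((OX.stalk ξ).obj F) →
      ∃ (S : Z.Modules) (s : S ⟶ F), Coh.IsCoh S ∧ TopVanish d E S ∧ (OX.stalk ξ).map s ≠ 0)
    {F : Z.Modules} (hF : Coh.IsCoh F) : TopVanish d E F := by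
  classical
  induction hk : ∑ ξ ∈ (finite_generic (Z := Z)).toFinset, len F ξ using Nat.strong_induction_on generalizing F with
  | _ k ih =>
    by_cases hz : ∀ ξ : Z, Order.coheight ξ = 0 → IsZero ((OX.stalk ξ).obj F)
    · exact topVanish_of_small hd hdim E hF hz
    push Not at hz
    obtain ⟨ξ, hξ, hne⟩ := hz
    obtain ⟨S, s, hSc, hS, hs⟩ := h F hF ξ hξ hne
    refine topVanish_of_map hdim E s hS (ih _ ?_ (QCoh.isCoh_cokernel s hSc hF) rfl)
    rw [← hk]
    exact Finset.sum_lt_sum (fun η hη => (len_cokernel ((finite_generic (Z := Z)).mem_toFinset.1 hη) hF s).1)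
      ⟨ξ, (finite_generic (Z := Z)).mem_toFinset.2 hξ, (len_cokernel hξ hF s).2 hs⟩

end GrothLib.CohAmple24
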