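import Groth.Agent.Lib.CohAmple24.Vanish
import Groth.Agent.Lib.CohAmple24.Dev
import Groth.Agent.Lib.CycDetL.Functional
import Groth.Agent.Lib.DefoExt26.LocTriv
import Groth.Agent.Lib.HomSh.Coherent

/-!
# Maps out of a tensor product which are non-zero at a given generic point
-/

set_option autoImplicit false
set_option backward.isDefEq.respectTransparency false
set_option linter.style.haveILetI false
set_option maxHeartbeats 1000000

universe u

open AlgebraicGeometry CategoryTheory CategoryTheory.Limits TopologicalSpace Opposite IsLocalRing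

noncomputable section

namespace GrothLib.CohAmple24

theorem exists_linearMap_ne_zero {R : Type*} [CommRing R] [IsLocalRing R] [IsArtinianRing R]
    (A F : Type*) [AddCommGroup A] [Module R A] [Module.Finite R A] [Nontrivial A]
    [AddCommGroup F] [Module R F] [Module.Finite R F] [Nontrivial F] : ∃ f : A →ₗ[R] F, f ≠ 0 := by
  obtain ⟨x, hx, hmx⟩ := CycDetL.exists_socle (R := R) (M := F)
  have hne : maximalIdeal R • (⊤ : Submodule R A) ≠ ⊤ := fun h => top_ne_bot (α := Submodule R A)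
    (Submodule.eq_bot_of_le_smul_of_le_jacobson_bot (maximalIdeal R) ⊤ Module.Finite.fg_top h.ge
      (maximalIdeal_le_jacobson _))
  letI : Field (R ⧸ maximalIdeal R) := Ideal.Quotient.field _
  let Q := A ⧸ maximalIdeal R • (⊤ : Submodule R A)
  haveI : Nontrivial Q := Submodule.Quotient.nontrivial_iff.2 hne
  obtain ⟨q, hq⟩ := exists_ne (0 : Q)
  obtain ⟨g, hg⟩ : ∃ g : Q →ₗ[R ⧸ maximalIdeal R] (R ⧸ maximalIdeal R), g q ≠ 0 := by
    by_contra hall
    push Not at hall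
    exact hq ((Module.forall_dual_apply_eq_zero_iff (R ⧸ maximalIdeal R) q).1 hall)
  let inc : (R ⧸ maximalIdeal R) →ₗ[R] F := Submodule.liftQ (maximalIdeal R) (LinearMap.toSpanSingleton R F x)
    fun r hr => LinearMap.mem_ker.2 (hmx r hr)
  refine ⟨inc.comp ((g.restrictScalars R).comp (Submodule.mkQ _)), fun h0 => ?_⟩
  obtain ⟨a, rfl⟩ := Submodule.Quotient.mk_surjective _ q
  have h1 : inc (g (Submodule.Quotient.mk a)) = 0 := LinearMap.congr_fun h0 a
  obtain ⟨r, hr⟩ := Submodule.Quotient.mk_surjective (maximalIdeal R) (g (Submodule.Quotient.mk a))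
  rw [← hr, Submodule.liftQ_apply, LinearMap.toSpanSingleton_apply] at h1
  by_cases hu : IsUnit r
  · exact hx (hu.smul_eq_zero.1 h1)
  · exact hg (hr ▸ (Submodule.Quotient.mk_eq_zero _).2 ((mem_maximalIdeal r).2 hu))

variable {X : Scheme.{u}}

theorem nontrivial_of_not_isZero {x : X} {F : X.Modules} (h : ¬ IsZero ((OX.stalk x).obj F)) :
    Nontrivial ((OX.stalk x).obj F) := by
  by_contra hh
  rw [not_nontrivial_iff_subsingleton] at hh
  exact h (@ModuleCat.isZero_of_subsingleton _ _ _ hh)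

/-- A map defined near `ξ` and non-zero there. -/
theorem exists_local_hom [IsLocallyNoetherian X] {A F : X.Modules} (hA : Coh.IsCoh A) (hF : Coh.IsCoh F) (ξ : X)
    (hξ : Order.coheight ξ = 0) (hAne : ¬ IsZero ((OX.stalk ξ).obj A)) (hFne : ¬ IsZero ((OX.stalk ξ).obj F)) :
    ∃ (U : X.Opens) (φ : (Scheme.Modules.restrictFunctor U.ι).obj A ⟶ (Scheme.Modules.restrictFunctor U.ι).obj F)
      (W : (U : Scheme.{u}).Opens) (hW : ξ ∈ U.ι ''ᵁ W) (m : Γ(A, U.ι ''ᵁ W)),
      F.presheaf.germ (U.ι ''ᵁ W) ξ hW (φ.app W m) ≠ 0 := by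
  haveI := isArtinian_generic hξ
  haveI : Module.Finite (X.presheaf.stalk ξ) (A.presheaf.stalk ξ) := finite_OX_stalk hA ξ
  haveI : Module.Finite (X.presheaf.stalk ξ) (F.presheaf.stalk ξ) := finite_OX_stalk hF ξ
  haveI : Nontrivial (A.presheaf.stalk ξ) := nontrivial_of_not_isZero hAne
  haveI : Nontrivial (F.presheaf.stalk ξ) := nontrivial_of_not_isZero hFne
  obtain ⟨f, hf⟩ := exists_linearMap_ne_zero (R := X.presheaf.stalk ξ) (A.presheaf.stalk ξ) (F.presheaf.stalk ξ)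
  obtain ⟨a, ha⟩ : ∃ a, f a ≠ 0 := by
    by_contra hall
    push Not at hall
    exact hf (LinearMap.ext hall)
  obtain ⟨θ, hθ⟩ := ((HomSh.hasRel_of_isCoh hA).evalStalk_bijective F ξ).2 f
  obtain ⟨U₁, hU₁, g, rfl⟩ := TopCat.Presheaf.exists_germ_eq (RefHull.homSh A F).presheaf θ
  obtain ⟨U₂, hU₂, m₀, rfl⟩ := TopCat.Presheaf.exists_germ_eq A.presheaf a
  obtain ⟨φ, hφ⟩ := DefoExt26.exists_restrict_hom g
  let V₁ : X.Opens := U₁
  let W : (V₁ : Scheme.{u}).Opens := Scheme.Opens.ι V₁ ⁻¹ᵁ U₂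
  have hW : ξ ∈ Scheme.Opens.ι V₁ ''ᵁ W := ⟨⟨ξ, hU₁⟩, hU₂, rfl⟩
  have hle : Scheme.Opens.ι V₁ ''ᵁ W ≤ U₂ :=
    ((Scheme.Opens.ι V₁).image_preimage_eq_opensRange_inf U₂).trans_le inf_le_right
  refine ⟨V₁, φ, W, hW, A.presheaf.map (homOfLE hle).op m₀, ?_⟩
  rw [hφ, TopCat.Presheaf.germ_res_apply]
  rw [← hθ] at ha
  erw [RefHull.evalStalk_germ] at ha
  exact ha

theorem stalk_map_germ_eq {M N : X.Modules} (χ : M ⟶ N) {x : X} {V : X.Opens} (hx : x ∈ V) (m : Γ(M, V))
    (h : (OX.stalk x).map χ = 0) : N.presheaf.germ V x hx (χ.app V m) = 0 :=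
  (OX.stalkMapHom_germ (DCoh.toP.map χ) V hx m).symm.trans
    (congrArg (fun t => ModuleCat.Hom.hom t (OX.germ (DCoh.toP.obj M) V hx m)) h)

/-- A coherent module `P` with a map `A ⊗ P ⟶ F` non-zero at `ξ`. -/
theorem exists_map_nonzero [IsNoetherian X] {A F : X.Modules} (hA : Coh.IsCoh A) (hF : Coh.IsCoh F) (ξ : X)
    (hξ : Order.coheight ξ = 0) (hAne : ¬ IsZero ((OX.stalk ξ).obj A)) (hFne : ¬ IsZero ((OX.stalk ξ).obj F)) :
    ∃ (P : X.Modules) (χ : (tA A).obj P ⟶ F), Coh.IsCoh P ∧ (OX.stalk ξ).map χ ≠ 0 := by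
  obtain ⟨U, φ, W, hW, m, hm⟩ := exists_local_hom hA hF ξ hξ hAne hFne
  let R := Scheme.Modules.restrictFunctor U.ι
  let O := Coh.structureModule X
  let e : (tA A).obj O ≅ A := GrTilde.tensorModComm A O ≪≫ OX.tensorUnitLeftIso A
  have hO : Coh.IsCoh O := HomSh.isCoh_structureModule X
  have hAO : Coh.IsCoh ((tA A).obj O) := TensorPerf20.isCoh_tensor hA hO
  obtain ⟨G', inc, φ', hmono, hG', hinc, hφ'⟩ :=
    Groth.Agent.S0816.result X _ F hAO hF U (R.map e.hom ≫ φ)
  haveI := hmono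
  have hrange : Set.range (complι U) ⊆ (U : Set X)ᶜ := (range_complι U).le
  obtain ⟨N, hN⟩ := exists_kf_isZero (i := complι U) (QCoh.isCoh_cokernel inc hG' hAO) (by
    rw [range_complι]
    haveI := hinc
    exact support_cokernel_subset U inc inferInstance)
  obtain ⟨l, hl⟩ := exists_factor (complι U) A O inc N hN
  refine ⟨K0Sub.kf (complι U) N O, l ≫ φ', K0Sub.isCoh_kf (complι U) hO N, fun h0 => hm ?_⟩
  haveI ht := isIso_restrict_tensor_map U A _ (isIso_restrict_kfInc (complι U) U hrange O N)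
  haveI : IsIso (R.map (l ≫ inc)) := by rw [hl]; exact ht
  let θ : R.obj ((tA A).obj (K0Sub.kf (complι U) N O)) ≅ R.obj A := asIso (R.map (l ≫ inc) ≫ R.map e.hom)
  have hθ : θ.hom ≫ φ = R.map (l ≫ φ') := by
    show (R.map (l ≫ inc) ≫ R.map e.hom) ≫ φ = _
    rw [Functor.map_comp, Functor.map_comp, Category.assoc, Category.assoc, ← hφ']
  have h1 : φ.app W m = (R.map (l ≫ φ')).app W (θ.inv.app W m) := by
    rw [← hθ]
    exact congrArg (φ.app W) (congrArg (fun t => t.app W m) θ.inv_hom_id).symm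
  rw [h1]
  exact stalk_map_germ_eq (l ≫ φ') hW _ h0

end GrothLib.CohAmple24
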