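import Groth.Agent.Lib.CohAmple24.Chow
import Groth.Agent.Lib.CohAmple24.Hom
import Groth.Agent.Lib.OX.TensorAssoc
import Groth.Agent.Lib.QCoh.SupportPullback
import Groth.Agent.Lib.FMInv15.PointSheaf
import Mathlib.AlgebraicGeometry.Artinian

/-!
# Cohomological ampleness and alterations
-/

set_option autoImplicit false
set_option backward.isDefEq.respectTransparency false
set_option linter.style.haveILetI false
set_option maxHeartbeats 1000000

universe u

open AlgebraicGeometry CategoryTheory CategoryTheory.Limits TopologicalSpace Opposite MonoidalCategory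

noncomputable section

namespace GrothLib.CohAmple24

section Iso

variable {X : Scheme.{u}}

/-- Commutativity. -/
def commIso (A B : X.Modules) : (tA A).obj B ≅ (tA B).obj A :=
  DCoh.shP.mapIso (β_ (DCoh.toP.obj A) (DCoh.toP.obj B))

/-- `(A ⊗ P) ⊗ E ≅ (P ⊗ E) ⊗ A`. -/
def rotIso (A P E : X.Modules) : (tA ((tA A).obj P)).obj E ≅ (tA ((tA P).obj E)).obj A :=
  OX.tensorAssoc A P E ≪≫ commIso A ((tA P).obj E)

theorem tensorMod_eq (A B : X.Modules) : CohB1.tensorMod A B = (tA A).obj B := rfl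

variable {Y Y' : Scheme.{u}} (h : Y' ⟶ Y) (f : Y ⟶ X)

theorem nonempty_phi_comp (G : Y'.Modules) (M : X.Modules) :
    Nonempty ((phi (h ≫ f) G).obj M ≅ (phi h G).obj ((Scheme.Modules.pullback f).obj M)) :=
  ⟨((DCoh.tensorBi (X := Y')).mapIso ((Scheme.Modules.pullbackComp h f).app M).symm).app G⟩

theorem nonempty_pull_rot (B : Y.Modules) (P E : X.Modules) :
    Nonempty ((tA ((Scheme.Modules.pullback f).obj ((tA P).obj E))).obj B ≅
      (tA ((tA B).obj ((Scheme.Modules.pullback f).obj P))).obj ((Scheme.Modules.pullback f).obj E)) :=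
  ⟨((DCoh.tensorBi (X := Y)).mapIso (OX.pullTensorIso f P E)).app B ≪≫ (rotIso B _ _).symm⟩

end Iso

section Key

variable {A : Type u} [CommRing A] [IsNoetherianRing A] {X Y : Scheme.{u}} {f : Y ⟶ X}

/-- The two twisted top cohomology groups vanish together. -/
theorem key [IsNoetherian X] [IsNoetherian Y] [X.IsSeparated] [Y.IsSeparated] {d : ℕ} (hd : 1 ≤ d)
    (hX : topologicalKrullDim X = (d : WithBot ℕ∞)) (hY : topologicalKrullDim Y = (d : WithBot ℕ∞))
    (M : Modif Y X f d) {E : X.Modules} (hE : Coh.IsCoh E) {P : X.Modules} (hP : Coh.IsCoh P) :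
    Subsingleton (Coh.HH X (CohB1.tensorMod ((tA ((Scheme.Modules.pushforward (M.h ≫ f)).obj M.G)).obj P) E) d) ↔
      Subsingleton (Coh.HH Y (CohB1.tensorMod ((tA ((Scheme.Modules.pushforward M.h).obj M.G)).obj
        ((Scheme.Modules.pullback f).obj P)) ((Scheme.Modules.pullback f).obj E)) d) := by
  haveI := M.isNoetherian
  haveI := M.isProper
  haveI := M.isProper'
  haveI : IsFinite ((M.h ≫ f) ∣_ FinBir24.finLocus (M.h ≫ f)) := FinBir24.isFinite_restrict_finLocus _ le_rfl
  haveI : IsFinite (M.h ∣_ FinBir24.finLocus M.h) := FinBir24.isFinite_restrict_finLocus _ le_rfl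
  haveI : HasInjectiveResolutions M.src.Modules := inferInstance
  have hPE : Coh.IsCoh ((tA P).obj E) := TensorPerf20.isCoh_tensor hP hE
  obtain ⟨e⟩ := nonempty_phi_comp M.h f M.G ((tA P).obj E)
  obtain ⟨e'⟩ := nonempty_pull_rot f ((Scheme.Modules.pushforward M.h).obj M.G) P E
  rw [tensorMod_eq, tensorMod_eq, subsingleton_of_target (rotIso _ P E) d,
    subsingleton_transfer_iff d hd hX M.dim_le (FinBir24.finLocus (M.h ≫ f)) M.thick' M.isCoh
      (fun q hq => M.acyclic' q hq) _ hPE,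
    subsingleton_of_target e d,
    ← subsingleton_transfer_iff d hd hY M.dim_le (FinBir24.finLocus M.h) M.thick M.isCoh
      (fun q hq => M.acyclic q hq) _ (ModDesc.isCoh_pullback f _ hPE)]
  exact subsingleton_of_target e' d

theorem thick_of_coheight {y : Y} (hy : Order.coheight y = 0) : ringKrullDim (Y.presheaf.stalk y) ≤ 1 := by
  rw [ringKrullDim_stalk_eq_coheight, hy]
  exact WithBot.coe_le_coe.2 zero_le_one

theorem not_isZero_push {Z S : Scheme.{u}} (g : Z ⟶ S) [IsProper g] [Surjective g] {G : Z.Modules}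
    (hG : PicF.IsInvertible G) {s : S} (hs : s ∈ FinBir24.finLocus g) :
    ¬ IsZero ((OX.stalk s).obj ((Scheme.Modules.pushforward g).obj G)) := by
  haveI : IsFinite (g ∣_ FinBir24.finLocus g) := FinBir24.isFinite_restrict_finLocus _ le_rfl
  obtain ⟨z, rfl⟩ := g.surjective s
  exact not_isZero_stalk_push g _ hG (Euler.isFinLocFree_of_isInvertible hG |>
    fun _ => (Euler.isCoh_of_isInvertible hG).1) hs

/-- Vanishing on `Y` gives vanishing on `X`. -/
theorem topVanish_down [IsNoetherian X] [IsNoetherian Y] [X.IsSeparated] [Y.IsSeparated] {d : ℕ} (hd : 1 ≤ d)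
    (hX : topologicalKrullDim X = (d : WithBot ℕ∞)) (hY : topologicalKrullDim Y = (d : WithBot ℕ∞))
    [IsProper f] [Surjective f] (M : Modif Y X f d) {E : ℕ → X.Modules} (hE : ∀ n, Coh.IsCoh (E n))
    (hyp : ∀ F : Y.Modules, Coh.IsCoh F → TopVanish d (fun n => (Scheme.Modules.pullback f).obj (E n)) F)
    {F : X.Modules} (hF : Coh.IsCoh F) : TopVanish d E F := by
  haveI := M.isNoetherian
  haveI := M.isProper
  haveI := M.isProper'
  haveI := M.surjective
  refine topVanish_all hd hX E (fun F hF ξ hξ hne => ?_) hF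
  have hA := FormalExist7.isCoh_pushforward (M.h ≫ f) M.isCoh
  obtain ⟨P, χ, hP, hχ⟩ := exists_map_nonzero hA hF ξ hξ
    (not_isZero_push (M.h ≫ f) M.inv (M.thick' ξ (thick_of_coheight hξ))) hne
  refine ⟨_, χ, TensorPerf20.isCoh_tensor hA hP, ?_, hχ⟩
  obtain ⟨n₀, h₀⟩ := hyp _ (TensorPerf20.isCoh_tensor (FormalExist7.isCoh_pushforward M.h M.isCoh)
    (ModDesc.isCoh_pullback f P hP))
  exact ⟨n₀, fun n hn => (key hd hX hY M (hE n) hP).2 (h₀ n hn)⟩

/-- Vanishing on `X` gives vanishing on `Y`. -/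
theorem topVanish_up [IsNoetherian X] [IsNoetherian Y] [X.IsSeparated] [Y.IsSeparated] {d : ℕ} (hd : 1 ≤ d)
    (hX : topologicalKrullDim X = (d : WithBot ℕ∞)) (hY : topologicalKrullDim Y = (d : WithBot ℕ∞))
    [IsProper f] (U : X.Opens) [IsFinite (f ∣_ U)] (hU' : Dense ((f ⁻¹ᵁ U : Y.Opens) : Set Y))
    (M : Modif Y X f d) {E : ℕ → X.Modules} (hE : ∀ n, Coh.IsCoh (E n))
    (hyp : ∀ F : X.Modules, Coh.IsCoh F → TopVanish d E F)
    {F : Y.Modules} (hF : Coh.IsCoh F) : TopVanish d (fun n => (Scheme.Modules.pullback f).obj (E n)) F := by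
  haveI := M.isNoetherian
  haveI := M.isProper
  haveI := M.isProper'
  haveI := M.surjective
  refine topVanish_all hd hY _ (fun F hF ξ hξ hne => ?_) hF
  have hA := FormalExist7.isCoh_pushforward M.h M.isCoh
  obtain ⟨P, χ, hP, hχ⟩ := exists_map_nonzero hA hF ξ hξ
    (not_isZero_push M.h M.inv (M.thick ξ (thick_of_coheight hξ))) hne
  let A' := (Scheme.Modules.pushforward M.h).obj M.G
  let c := (Scheme.Modules.pullbackPushforwardAdjunction f).counit.app P
  have hfP := FormalExist7.isCoh_pushforward f hP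
  have hfQ := ModDesc.isCoh_pullback f _ hfP
  refine ⟨_, (tA A').map c ≫ χ, TensorPerf20.isCoh_tensor hA hfQ, ?_, fun h0 => hχ ?_⟩
  · obtain ⟨n₀, h₀⟩ := hyp _ (TensorPerf20.isCoh_tensor (FormalExist7.isCoh_pushforward (M.h ≫ f) M.isCoh) hfP)
    exact ⟨n₀, fun n hn => (key hd hX hY M (hE n) hfP).1 (h₀ n hn)⟩
  · have hξU : f ξ ∈ U := mem_of_maximal (f ⁻¹ᵁ U) hU' (maximal_of_coheight hξ)
    haveI := epi_stalk_counit f U P hP.1 hξU
    have hn := OX.stalkTensorBiIso_natural₂ ξ A' c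
    haveI : Epi ((OX.stalk ξ).map ((tA A').map c)) := by
      rw [(Iso.eq_comp_inv _).2 hn]
      haveI : Epi (((OX.stalk ξ).obj A') ◁ (OX.stalk ξ).map c) :=
        (ModuleCat.epi_iff_surjective _).2 (LinearMap.lTensor_surjective _ ((ModuleCat.epi_iff_surjective _).1 inferInstance))
      infer_instance
    rw [Functor.map_comp] at h0
    exact zero_of_epi_comp _ h0

end Key

section Zero

variable {X : Scheme.{u}}

theorem isZero_of_dim_zero [IsNoetherian X] (hd : topologicalKrullDim X ≤ 0) (M : X.Modules)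
    (h : Subsingleton (Coh.HH X M 0)) : IsZero M := by
  haveI := IsLocallyArtinian.of_topologicalKrullDim_le_zero hd
  haveI : Finite X := finite_of_compact_of_discrete
  exact FMInv15.isZero_of_subsingleton_HH M Set.finite_univ (fun _ _ => isClosed_discrete _) (Set.subset_univ _) h

/-- In dimension zero cohomological ampleness means that the family is eventually zero. -/
theorem ample_zero_iff [IsNoetherian X] (hd : topologicalKrullDim X ≤ 0) (E : ℕ → X.Modules) :
    (∀ F : X.Modules, Coh.IsCoh F → ∃ n₀ : ℕ, ∀ n : ℕ, n₀ ≤ n → ∀ i : ℕ, 0 ≤ i →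
        Subsingleton (Coh.HH X (CohB1.tensorMod F (E n)) i)) ↔
      ∃ n₀ : ℕ, ∀ n : ℕ, n₀ ≤ n → IsZero (E n) := by
  constructor
  · intro h
    obtain ⟨n₀, h₀⟩ := h _ (HomSh.isCoh_structureModule X)
    exact ⟨n₀, fun n hn => (isZero_of_dim_zero hd _ (h₀ n hn 0 le_rfl)).of_iso (OX.tensorUnitLeftIso (E n)).symm⟩
  · rintro ⟨n₀, h₀⟩ F -
    exact ⟨n₀, fun n hn i _ => GrothLib.Cohom.subsingleton_HH_of_isZero
      (((DCoh.tensorBi (X := X)).obj F).map_isZero (h₀ n hn)) i⟩

theorem isZero_pullback_iff {Y : Scheme.{u}} (f : Y ⟶ X) [Surjective f] {E : X.Modules} (hE : Coh.IsCoh E) :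
    IsZero ((Scheme.Modules.pullback f).obj E) ↔ IsZero E := by
  refine ⟨fun h => OX.isZero_of_subsingleton_stalks _ fun x => ?_, fun h => Functor.map_isZero _ h⟩
  obtain ⟨y, rfl⟩ := f.surjective x
  refine not_not.1 fun hx => ?_
  have : y ∈ CohB1.support ((Scheme.Modules.pullback f).obj E) := by
    rw [QCoh.support_pullback f E hE]; exact hx
  exact this (ModuleCat.isZero_iff_subsingleton.1 ((OX.stalk y).map_isZero h))

end Zero

/-- **Alterations do not change cohomological ampleness.** -/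
theorem cohAmple_iff_pullback {A : Type u} [CommRing A] [IsNoetherianRing A] {X Y : Scheme.{u}}
    (pX : X ⟶ Spec (CommRingCat.of A)) (pY : Y ⟶ Spec (CommRingCat.of A)) [IsProper pX] [IsProper pY]
    (f : Y ⟶ X) [IsProper f] [Surjective f] (U : X.Opens) (hU' : Dense ((f ⁻¹ᵁ U : Y.Opens) : Set Y))
    (hfin : IsFinite (f ∣_ U)) (d : ℕ) (hX : topologicalKrullDim X = (d : WithBot ℕ∞))
    (hY : topologicalKrullDim Y = (d : WithBot ℕ∞)) (E : ℕ → X.Modules) (hE : ∀ n, Coh.IsCoh (E n)) :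
    (∀ F : X.Modules, Coh.IsCoh F → ∃ n₀ : ℕ, ∀ n : ℕ, n₀ ≤ n → ∀ i : ℕ, d ≤ i →
        Subsingleton (Coh.HH X (CohB1.tensorMod F (E n)) i)) ↔
    (∀ F : Y.Modules, Coh.IsCoh F → ∃ n₀ : ℕ, ∀ n : ℕ, n₀ ≤ n → ∀ i : ℕ, d ≤ i →
        Subsingleton (Coh.HH Y (CohB1.tensorMod F ((Scheme.Modules.pullback f).obj (E n))) i)) := by
  haveI : IsNoetherian X := Nagata6.isNoetherian_of_ft pX
  haveI : IsNoetherian Y := Nagata6.isNoetherian_of_ft pY
  haveI : X.IsSeparated := ⟨by
    rw [show terminal.from X = pX ≫ terminal.from _ from terminal.hom_ext _ _]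
    infer_instance⟩
  haveI : Y.IsSeparated := ⟨by
    rw [show terminal.from Y = pY ≫ terminal.from _ from terminal.hom_ext _ _]
    infer_instance⟩
  haveI := hfin
  rcases Nat.eq_zero_or_pos d with rfl | hd
  · rw [ample_zero_iff (by exact_mod_cast hX.le) E, ample_zero_iff (by exact_mod_cast hY.le)]
    exact exists_congr fun n₀ => forall₂_congr fun n _ => (isZero_pullback_iff f (hE n)).symm
  · obtain ⟨y₀⟩ : Nonempty Y := by
      by_contra hne
      rw [not_nonempty_iff] at hne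
      rw [AlgSp.topologicalKrullDim_eq_iSup_stalk, iSup_of_empty] at hY
      exact WithBot.bot_ne_coe hY
    obtain ⟨M⟩ := exists_modif (X := X) pY f U hU' y₀ hY
    constructor
    · intro h F hF
      obtain ⟨n₀, h₀⟩ := topVanish_up hd hX hY U hU' M hE
        (fun F hF => (h F hF).imp fun n₀ h₀ n hn => h₀ n hn d le_rfl) hF
      exact ⟨n₀, fun n hn i hi => hi.eq_or_lt.elim (fun e => e ▸ h₀ n hn)
        fun hlt => subsingleton_HH_succ hY.le _ i hlt⟩
    · intro h F hF
      obtain ⟨n₀, h₀⟩ := topVanish_down hd hX hY M hE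
        (fun F hF => (h F hF).imp fun n₀ h₀ n hn => h₀ n hn d le_rfl) hF
      exact ⟨n₀, fun n hn i hi => hi.eq_or_lt.elim (fun e => e ▸ h₀ n hn)
        fun hlt => subsingleton_HH_succ hX.le _ i hlt⟩

end GrothLib.CohAmple24
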