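import Groth.Agent.Lib.CohAmple24.Transfer
import Groth.Agent.Lib.CohAmple24.Dev
import Groth.Agent.Lib.Mero.Ass

/-!
# Germs along affine preimages
-/

set_option autoImplicit false
set_option backward.isDefEq.respectTransparency false
set_option linter.style.haveILetI false
set_option maxHeartbeats 1000000

universe u

open AlgebraicGeometry CategoryTheory CategoryTheory.Limits TopologicalSpace Opposite

noncomputable section

namespace GrothLib.CohAmple24

variable {X Y : Scheme.{u}} (g : Y ⟶ X)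

theorem exists_affine_preimage (V : X.Opens) [IsAffineHom (g ∣_ V)] {x : X} (hx : x ∈ V) :
    ∃ O : X.Opens, x ∈ O ∧ O ≤ V ∧ IsAffineOpen O ∧ IsAffineOpen (g ⁻¹ᵁ O) := by
  obtain ⟨O, hO, hxO, hOV⟩ := exists_isAffineOpen_mem_and_subset hx
  refine ⟨O, hxO, hOV, hO, ?_⟩
  have h1 : IsAffineOpen (V.ι ⁻¹ᵁ O) :=
    hO.preimage_of_isOpenImmersion V.ι (by rw [Scheme.Opens.opensRange_ι]; exact hOV)
  have h2 := (h1.preimage (g ∣_ V)).image_of_isOpenImmersion (g ⁻¹ᵁ V).ι
  rw [← Scheme.Hom.comp_preimage, morphismRestrict_ι, Scheme.Hom.comp_preimage,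
    Scheme.Hom.image_preimage_eq_opensRange_inf, Scheme.Opens.opensRange_ι,
    inf_eq_right.2 ((Opens.map g.base).monotone hOV)] at h2
  exact h2

/-- The counit `g^*g_*P ⟶ P` is surjective on stalks over an open where `g` is affine. -/
theorem epi_stalk_counit (V : X.Opens) [IsAffineHom (g ∣_ V)] (P : Y.Modules) (hP : Coh.IsQCoh P) {y : Y}
    (hy : g y ∈ V) :
    Epi ((OX.stalk y).map ((Scheme.Modules.pullbackPushforwardAdjunction g).counit.app P)) := by
  haveI : P.IsQuasicoherent := hP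
  obtain ⟨O, hyO, hOV, hO, hgO⟩ := exists_affine_preimage g V hy
  let adj := Scheme.Modules.pullbackPushforwardAdjunction g
  rw [ModuleCat.epi_iff_surjective]
  intro m
  obtain ⟨c, z, hc, hz⟩ := WeakAss.exists_smul_eq_germ hgO (show y ∈ g ⁻¹ᵁ O from hyO)
    (show P.presheaf.stalk y from m)
  let w : Γ((Scheme.Modules.pullback g).obj ((Scheme.Modules.pushforward g).obj P), g ⁻¹ᵁ O) :=
    (adj.unit.app ((Scheme.Modules.pushforward g).obj P)).app O (show Γ((Scheme.Modules.pushforward g).obj P, O) from z)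
  have hw : (adj.counit.app P).app (g ⁻¹ᵁ O) w = z :=
    congrArg (fun t => (Scheme.Modules.Hom.app t O) (show Γ((Scheme.Modules.pushforward g).obj P, O) from z))
      (adj.right_triangle_components P)
  have hu := HomSh.isUnit_germ (show y ∈ g ⁻¹ᵁ O from hyO) hc
  refine ⟨(hu.unit⁻¹ : _).1 • OX.germ (DCoh.toP.obj ((Scheme.Modules.pullback g).obj
      ((Scheme.Modules.pushforward g).obj P))) (g ⁻¹ᵁ O) hyO w, ?_⟩
  refine (map_smul _ _ _).trans ?_
  refine (congrArg (_ • ·) ((OX.stalkMapHom_germ (DCoh.toP.map (adj.counit.app P)) (g ⁻¹ᵁ O) hyO w).trans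
    (congrArg (OX.germ (DCoh.toP.obj P) (g ⁻¹ᵁ O) hyO) hw))).trans ?_
  show (hu.unit⁻¹ : _).1 • (P.presheaf.germ (g ⁻¹ᵁ O) y hyO z : P.presheaf.stalk y) = m
  rw [← hz, smul_smul, IsUnit.val_inv_mul, one_smul]

theorem not_isZero_stalk_of_invertible {G : Y.Modules} (hG : PicF.IsInvertible G) (y : Y) :
    ¬ IsZero ((OX.stalk y).obj G) := by
  intro h
  obtain ⟨U, hy, ⟨e⟩⟩ := hG y
  have h1 : IsZero ((OX.stalk (⟨y, hy⟩ : (U : Scheme.{u}))).obj (Coh.structureModule (U : Scheme.{u}))) :=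
    (((ModuleCat.extendScalars (U.ι.stalkMap ⟨y, hy⟩).hom).map_isZero h).of_iso
      ((OX.restrictStalkExtIso U.ι ⟨y, hy⟩).app G)).of_iso ((OX.stalk _).mapIso e.symm)
  haveI := @GrothLib.Mero.nontrivial_stalk_structure (U : Scheme.{u}) (⟨y, hy⟩ : (U : Scheme.{u}))
  exact not_subsingleton ((Coh.structureModule (U : Scheme.{u})).presheaf.stalk ⟨y, hy⟩)
    (ModuleCat.isZero_iff_subsingleton.1 h1)

/-- Direct images of invertible modules have non-zero stalks on the image, where the map is affine. -/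
theorem not_isZero_stalk_push (V : X.Opens) [IsAffineHom (g ∣_ V)] {G : Y.Modules} (hG : PicF.IsInvertible G)
    (hq : Coh.IsQCoh G) {y : Y} (hy : g y ∈ V) :
    ¬ IsZero ((OX.stalk (g y)).obj ((Scheme.Modules.pushforward g).obj G)) := by
  intro h
  haveI : G.IsQuasicoherent := hq
  refine not_isZero_stalk_of_invertible hG y ?_
  obtain ⟨O, hyO, hOV, hO, hgO⟩ := exists_affine_preimage g V hy
  refine @ModuleCat.isZero_of_subsingleton _ _ _ (subsingleton_of_forall_eq 0 fun m => ?_)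
  obtain ⟨c, z, hc, hz⟩ := WeakAss.exists_smul_eq_germ hgO (show y ∈ g ⁻¹ᵁ O from hyO)
    (show G.presheaf.stalk y from m)
  let N := (Scheme.Modules.pushforward g).obj G
  haveI : Subsingleton (N.presheaf.stalk (g y)) := ModuleCat.isZero_iff_subsingleton.1 h
  obtain ⟨O', hyO', i, i', e⟩ := TopCat.Presheaf.germ_eq N.presheaf (g y) hyO hyO
    (show Γ(N, O) from z) 0 (Subsingleton.elim _ _)
  rw [map_zero] at e
  have e' : G.presheaf.map ((Opens.map g.base).map i).op z = 0 := e
  have h0 : G.presheaf.germ (g ⁻¹ᵁ O) y hyO z = 0 := by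
    rw [← TopCat.Presheaf.germ_res_apply G.presheaf ((Opens.map g.base).map i) y hyO' z, e', map_zero]
  rw [h0] at hz
  exact (HomSh.isUnit_germ (show y ∈ g ⁻¹ᵁ O from hyO) hc).smul_eq_zero.1 hz

end GrothLib.CohAmple24
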