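import Groth.Agent.Lib.CohAmple24.Dim2
import Groth.Agent.Lib.CohAmple24.Gen
import Groth.Agent.Lib.ResProp.ThickNhd24
import Groth.Agent.Lib.RelVanish.Uniform

/-!
# Chow modifications of alterations
-/

set_option autoImplicit false
set_option backward.isDefEq.respectTransparency false
set_option linter.style.haveILetI false
set_option maxHeartbeats 1000000

universe u

open AlgebraicGeometry CategoryTheory CategoryTheory.Limits TopologicalSpace Opposite

noncomputable section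

namespace GrothLib.CohAmple24

variable {X Y Z : Scheme.{u}}

theorem mem_of_maximal [NoetherianSpace Y] (W : Y.Opens) (hW : Dense (W : Set Y)) {y : Y}
    (hy : ∀ z : Y, z ⤳ y → z = y) : y ∈ W := by
  obtain ⟨η, hη, hηy⟩ := FinBir24.exists_generization_mem_dense W hW y
  exact hy η hηy ▸ hη

theorem maximal_of_coheight {y : Y} (hy : Order.coheight y = 0) : ∀ z : Y, z ⤳ y → z = y :=
  fun _ hz => (hz.antisymm ((Order.coheight_eq_zero.1 hy) hz)).eq

theorem maximal_image (h : Z ⟶ Y) (W : Y.Opens) [IsIso (h ∣_ W)] {z : Z} (hz : ∀ w : Z, w ⤳ z → w = z)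
    (hzW : h z ∈ W) : ∀ y : Y, y ⤳ h z → y = h z := fun y hy => by
  have hyW : y ∈ W := hy.mem_open W.isOpen hzW
  obtain ⟨w, hw⟩ := (h ∣_ W).homeomorph.surjective ⟨y, hyW⟩
  have e : ∀ v : (h ⁻¹ᵁ W : Z.Opens), h v.1 = ((h ∣_ W) v).1 := fun v =>
    congrArg (fun t : _ ⟶ Y => t v) (morphismRestrict_ι h W).symm
  have hsp : w ⤳ (⟨z, hzW⟩ : (h ⁻¹ᵁ W : Z.Opens)) := by
    refine (h ∣_ W).homeomorph.isInducing.specializes_iff.1 ?_
    refine (subtype_specializes_iff _ _).2 ?_
    show ((h ∣_ W) w).1 ⤳ ((h ∣_ W) ⟨z, hzW⟩).1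
    rw [← e ⟨z, hzW⟩, show ((h ∣_ W) w).1 = y from congrArg Subtype.val hw]
    exact hy
  have h1 := hz w.1 ((subtype_specializes_iff _ _).1 hsp)
  rw [← show ((h ∣_ W) w).1 = y from congrArg Subtype.val hw, ← e, h1]

theorem quasiFiniteAt_of_isFinite (f : Y ⟶ X) (U : X.Opens) [IsFinite (f ∣_ U)] {y : Y} (hy : f y ∈ U) :
    f.QuasiFiniteAt y := by
  have h : ((f ∣_ U) ≫ U.ι).QuasiFiniteAt ⟨y, hy⟩ :=
    Scheme.Hom.quasiFiniteAt_comp_iff.2 ((f ∣_ U).quasiFiniteAt _)
  rw [morphismRestrict_ι, Scheme.Hom.quasiFiniteAt_comp_iff_of_isOpenImmersion] at h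
  exact h

theorem quasiFiniteAt_comp (h : Z ⟶ Y) (f : Y ⟶ X) {z : Z} (h1 : h.QuasiFiniteAt z)
    (h2 : f.QuasiFiniteAt (h z)) : (h ≫ f).QuasiFiniteAt z := by
  unfold Scheme.Hom.QuasiFiniteAt
  rw [Scheme.Hom.stalkMap_comp, CommRingCat.hom_comp]
  exact RingHom.QuasiFinite.comp h1 h2

theorem generic_of_component {η : Z} {T : Set Z} (hT : T ∈ irreducibleComponents (Z : Type u))
    (hη : IsGenericPoint η T) : ∀ w : Z, w ⤳ η → w = η := fun w hw => by
  have hle : T ≤ closure {w} := hη.def ▸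
    closure_minimal (Set.singleton_subset_iff.2 (specializes_iff_mem_closure.1 hw)) isClosed_closure
  have hmem : w ∈ T := (hT.2 isIrreducible_singleton.closure hle) (subset_closure rfl)
  exact (hw.antisymm (hη.specializes hmem)).eq

/-- A proper morphism onto `X` with an invertible module acyclic for it, finite in codimension one. -/
structure Modif (Y X : Scheme.{u}) (f : Y ⟶ X) (d : ℕ) where
  /-- The source. -/
  src : Scheme.{u}
  /-- The modification. -/
  h : src ⟶ Y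
  /-- The module. -/
  G : src.Modules
  isNoetherian : IsNoetherian src
  isProper : IsProper h
  isProper' : IsProper (h ≫ f)
  surjective : Surjective h
  dim_le : topologicalKrullDim src ≤ (d : WithBot ℕ∞)
  inv : PicF.IsInvertible G
  isCoh : Coh.IsCoh G
  acyclic : ∀ [HasInjectiveResolutions src.Modules] (q : ℕ), 0 < q → IsZero ((Coh.Rpush h q).obj G)
  acyclic' : ∀ [HasInjectiveResolutions src.Modules] (q : ℕ), 0 < q → IsZero ((Coh.Rpush (h ≫ f) q).obj G)
  thick : ∀ y : Y, ringKrullDim (Y.presheaf.stalk y) ≤ 1 → y ∈ FinBir24.finLocus h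
  thick' : ∀ x : X, ringKrullDim (X.presheaf.stalk x) ≤ 1 →
    x ∈ @FinBir24.finLocus _ _ (h ≫ f) isProper'

theorem exists_modif {A : Type u} [CommRing A] [IsNoetherianRing A] (pY : Y ⟶ Spec (CommRingCat.of A))
    [IsProper pY] [IsNoetherian X] (f : Y ⟶ X) [IsProper f] (U : X.Opens)
    (hU' : Dense ((f ⁻¹ᵁ U : Y.Opens) : Set Y)) [IsFinite (f ∣_ U)] (y₀ : Y) {d : ℕ}
    (hY : topologicalKrullDim Y = (d : WithBot ℕ∞)) : Nonempty (Modif Y X f d) := by
  haveI : IsNoetherian Y := Nagata6.isNoetherian_of_ft pY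
  obtain ⟨W, -, Y', h, -, N, -, -, -, -, hY', hh, hWd, hWd', hiso, hN, -, -, -⟩ :=
    ThickNhd24.exists_thick_nhd pY y₀
  haveI := hY'
  haveI := hh
  haveI := hiso
  haveI : IsProper (h ≫ f) := inferInstance
  have hgen : ∀ T ∈ irreducibleComponents (Y' : Type u), ∀ η : Y', IsGenericPoint η T →
      h.QuasiFiniteAt η ∧ (h ≫ f).QuasiFiniteAt η := fun T hT η hη => by
    have hmax := generic_of_component hT hη
    have hηW : h η ∈ W := mem_of_maximal (h ⁻¹ᵁ W) hWd' hmax
    have h1 := FinBir24.quasiFiniteAt_of_mem h W hηW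
    exact ⟨h1, quasiFiniteAt_comp h f h1
      (quasiFiniteAt_of_isFinite f U (mem_of_maximal (f ⁻¹ᵁ U) hU' (maximal_image h W hmax hηW)))⟩
  haveI : Surjective h := ⟨by
    rw [← Set.range_eq_univ, ← h.isClosedMap.isClosed_range.closure_eq]
    refine Set.eq_univ_of_forall fun y => closure_mono ?_ (hWd y)
    intro w hw
    obtain ⟨v, hv⟩ := (h ∣_ W).homeomorph.surjective ⟨w, hw⟩
    exact ⟨v.1, by rw [show h v.1 = ((h ∣_ W) v).1 from congrArg (fun t : _ ⟶ Y => t v) (morphismRestrict_ι h W).symm]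
                   exact congrArg Subtype.val hv⟩⟩
  have ha : ∀ {S : Scheme.{u}} (g : Y' ⟶ S) [IsNoetherian S] (O : S.Opens), IsAffineOpen O →
      CohB1.IsAmple (N.restrict (g ⁻¹ᵁ O).ι) := fun g _ O _ => by
    haveI : CompactSpace ((g ⁻¹ᵁ O : Y'.Opens) : Scheme.{u}) :=
      isCompact_iff_compactSpace.mp (NoetherianSpace.isCompact _)
    exact (Ample.isAmple_restrict_iff _ N).2
      (Ample.isAmple_pullback_of_isEmbedding _ (g ⁻¹ᵁ O).ι.isOpenEmbedding.isEmbedding hN)
  haveI : HasInjectiveResolutions Y'.Modules := inferInstance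
  obtain ⟨a, hacy⟩ := RelVanish.exists_isZero_Rpush h hN.1 (ha h) (HomSh.isCoh_structureModule Y')
  obtain ⟨b, hacy'⟩ := RelVanish.exists_isZero_Rpush (h ≫ f) hN.1 (ha (h ≫ f)) (HomSh.isCoh_structureModule Y')
  let m := max a b
  let e := OX.tensorUnitLeftIso (CohB1.tensorPow N m)
  have hinv := Ample.isInvertible_tensorPow hN.1 m
  refine ⟨⟨Y', h, CohB1.tensorPow N m, hY', hh, inferInstance, inferInstance, ?_, hinv,
    Euler.isCoh_of_isInvertible hinv,
    fun q hq => (hacy m (le_max_left a b) q hq).of_iso ((Coh.Rpush h q).mapIso e).symm,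
    fun q hq => (hacy' m (le_max_right a b) q hq).of_iso ((Coh.Rpush (h ≫ f) q).mapIso e).symm, ?_, ?_⟩⟩
  · exact (topologicalKrullDim_le_of_birational h W hWd').trans hY.le
  · exact fun y hy => (FinBir24.mem_finLocus h).2 fun z hz =>
      Groth.Agent.S1608.result h y hy (fun T hT η hη => (hgen T hT η hη).1) z hz
  · exact fun x hx => (FinBir24.mem_finLocus (h ≫ f)).2 fun z hz =>
      Groth.Agent.S1608.result (h ≫ f) x hx (fun T hT η hη => (hgen T hT η hη).2) z hz

end GrothLib.CohAmple24
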