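import Groth.Agent.Lib.GVanish.Support
import Groth.Agent.Lib.AlgSp.FieldFibreDim
import Groth.Agent.Lib.SuppIso.Basic
import Groth.Agent.Lib.ResProp.FinBirMain

/-!
# Cohomology of modules supported in codimension
-/

set_option autoImplicit false
set_option backward.isDefEq.respectTransparency false
set_option linter.style.haveILetI false

universe u

open AlgebraicGeometry CategoryTheory CategoryTheory.Limits TopologicalSpace Opposite

noncomputable section

namespace GrothLib.CohAmple24

variable {X : Scheme.{u}}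

theorem topologicalKrullDim_le_of_stalk (k : ℕ) {Z : Scheme.{u}}
    (h : ∀ z : Z, Order.coheight z ≤ (k : ℕ∞)) : topologicalKrullDim Z ≤ (k : WithBot ℕ∞) := by
  rw [GrothLib.AlgSp.topologicalKrullDim_eq_iSup_stalk]
  refine iSup_le fun z => ?_
  rw [ringKrullDim_stalk_eq_coheight]
  exact WithBot.coe_le_coe.2 (h z)

theorem coheight_le_dim (d : ℕ) (hd : topologicalKrullDim X = (d : WithBot ℕ∞)) (x : X) :
    Order.coheight x ≤ (d : ℕ∞) := by
  have h : ringKrullDim (X.presheaf.stalk x) ≤ (d : WithBot ℕ∞) := by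
    rw [← hd, GrothLib.AlgSp.topologicalKrullDim_eq_iSup_stalk]
    exact le_iSup (fun z : X => ringKrullDim (X.presheaf.stalk z)) x
  rw [ringKrullDim_stalk_eq_coheight] at h
  exact WithBot.coe_le_coe.1 h

/-- Chains in a closed subscheme extend by its codimension. -/
theorem coheight_add_le {Z : Scheme.{u}} (i : Z ⟶ X) [IsClosedImmersion i] (m : ℕ)
    (h : ∀ z : Z, (m : ℕ∞) ≤ Order.coheight (i z)) (z : Z) :
    Order.coheight z + m ≤ Order.coheight (i z) := by
  have key : ∀ (l : ℕ) (p : LTSeries Z), p.length = l → (l : ℕ∞) + m ≤ Order.coheight (i p.head) := by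
    intro l
    induction l with
    | zero => intro p _; simpa using h p.head
    | succ l ih =>
      intro p hp
      have hlt : p.head < (p.tail (by omega)).head := by
        rw [RelSeries.head_tail]
        exact p.strictMono (Fin.lt_def.2 (by simp [hp]))
      have hlt' : i p.head < i (p.tail (by omega)).head := by
        refine lt_of_le_not_ge ((hlt.le : _ ⤳ _).map i.continuous) fun hge => hlt.not_ge ?_
        exact i.isClosedEmbedding.isInducing.specializes_iff.1 hge
      refine le_trans ?_ (Order.coheight_add_one_le hlt')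
      rw [Nat.cast_succ, add_right_comm]
      gcongr
      exact ih _ (by simp [hp])
  rcases eq_or_ne (Order.coheight (i z)) ⊤ with hc | hc
  · rw [hc]; exact le_top
  obtain ⟨c, hc'⟩ := ENat.ne_top_iff_exists.1 hc
  have hm := h z
  rw [← hc'] at hm ⊢
  have hb : Order.coheight z ≤ ((c - m : ℕ) : ℕ∞) := by
    refine Order.coheight_le fun p hp => ?_
    have h1 := key p.length p rfl
    rw [hp, ← hc', ← Nat.cast_add, Nat.cast_le] at h1
    exact Nat.cast_le.2 (by omega)
  refine (add_le_add hb le_rfl).trans ?_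
  rw [← Nat.cast_add, Nat.cast_le]
  rw [Nat.cast_le] at hm
  omega

/-- A closed subscheme in codimension `m` has cohomology only up to `d - m`. -/
theorem subsingleton_HH_closed {Z : Scheme.{u}} (i : Z ⟶ X) [IsClosedImmersion i] [IsNoetherian Z] (d m k : ℕ)
    (hd : topologicalKrullDim X = (d : WithBot ℕ∞)) (h : ∀ z : Z, (m : ℕ∞) ≤ Order.coheight (i z))
    (hk : d ≤ k + m) (G : Z.Modules) (j : ℕ) (hj : k + 1 ≤ j) : Subsingleton (Coh.HH Z G j) := by
  refine GVanish.subsingleton_H_of_krullDim_le k (topologicalKrullDim_le_of_stalk k fun z => ?_) _ j hj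
  have h1 : Order.coheight z + m ≤ ((k + m : ℕ) : ℕ∞) :=
    (coheight_add_le i m h z).trans ((coheight_le_dim d hd _).trans (Nat.cast_le.2 hk))
  rw [Nat.cast_add] at h1
  exact (ENat.add_le_add_iff_right (ENat.natCast_ne_top m)).1 h1

/-- The reduced closed subscheme on the complement of an open. -/
def complι (U : X.Opens) :
    (Scheme.IdealSheafData.vanishingIdeal (X := X) ⟨(U : Set X)ᶜ, U.isOpen.isClosed_compl⟩).subscheme ⟶ X :=
  (Scheme.IdealSheafData.vanishingIdeal (X := X) ⟨(U : Set X)ᶜ, U.isOpen.isClosed_compl⟩).subschemeι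

instance (U : X.Opens) : IsClosedImmersion (complι U) := by
  unfold complι; infer_instance

theorem range_complι (U : X.Opens) : Set.range (complι U) = (U : Set X)ᶜ :=
  (Scheme.IdealSheafData.range_subschemeι _).trans
    (Scheme.IdealSheafData.coe_support_vanishingIdeal (X := X) ⟨(U : Set X)ᶜ, U.isOpen.isClosed_compl⟩)

theorem one_le_coheight [NoetherianSpace X] (U : X.Opens) (hU : Dense (U : Set X)) {x : X} (hx : x ∉ U) :
    (1 : ℕ∞) ≤ Order.coheight x := by
  obtain ⟨ξ, hξ, hξx⟩ := GrothLib.FinBir24.exists_generization_mem_dense U hU x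
  have hlt : x < ξ := lt_of_le_not_ge hξx fun h => hx (h.mem_open U.2 hξ)
  exact le_trans (by simp) (Order.coheight_add_one_le hlt)

theorem two_le_coheight (V : X.Opens) (hV : ∀ y : X, ringKrullDim (X.presheaf.stalk y) ≤ 1 → y ∈ V)
    {x : X} (hx : x ∉ V) : (2 : ℕ∞) ≤ Order.coheight x := by
  by_contra h
  refine hx (hV x ?_)
  rw [ringKrullDim_stalk_eq_coheight]
  exact WithBot.coe_le_coe.2 (Order.le_of_lt_succ (by simpa [Order.succ_eq_add_one, one_add_one_eq_two] using not_le.1 h))

end GrothLib.CohAmple24
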