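import Groth.Agent.Lib.CohAmple24.Top
import Groth.Agent.Lib.DimIneq9.Bound
import Groth.Agent.Lib.AlgSp.FibreDimZero

/-!
# Dimension of a modification
-/

set_option autoImplicit false
set_option backward.isDefEq.respectTransparency false
set_option linter.style.haveILetI false

universe u

open AlgebraicGeometry CategoryTheory CategoryTheory.Limits TopologicalSpace Opposite

noncomputable section

namespace GrothLib.CohAmple24

variable {X Y : Scheme.{u}}

theorem resTrdeg_eq_zero_of_isIso_restrict (h : Y ⟶ X) [LocallyOfFiniteType h] (W : X.Opens) [IsIso (h ∣_ W)]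
    {y : Y} (hy : h y ∈ W) : Dual3.resTrdeg h y = 0 := by
  obtain ⟨z, rfl⟩ : y ∈ Set.range (h ⁻¹ᵁ W).ι := by rw [Scheme.Opens.range_ι]; exact hy
  have h1 : Dual3.resTrdeg ((h ⁻¹ᵁ W).ι ≫ h) z = 0 := by
    rw [← morphismRestrict_ι, AlgSp.resTrdeg_comp, AlgSp.resTrdeg_eq_zero_of_lqf, AlgSp.resTrdeg_eq_zero_of_lqf,
      add_zero]
  rw [AlgSp.resTrdeg_comp, AlgSp.resTrdeg_eq_zero_of_lqf (h ⁻¹ᵁ W).ι, add_zero] at h1
  exact h1

/-- A morphism which is an isomorphism over an open with dense preimage does not raise the dimension. -/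
theorem topologicalKrullDim_le_of_birational [IsLocallyNoetherian X] [IsNoetherian Y] (h : Y ⟶ X) [LocallyOfFiniteType h]
    (W : X.Opens) [IsIso (h ∣_ W)] (hW : Dense ((h ⁻¹ᵁ W : Y.Opens) : Set Y)) :
    topologicalKrullDim Y ≤ topologicalKrullDim X := by
  refine (DimIneq9.dim_le_add_of_trdeg_le h 0 fun ξ hξ => ?_).trans (by simp)
  rw [Nat.cast_zero, resTrdeg_eq_zero_of_isIso_restrict h W]
  obtain ⟨η, hη, hηξ⟩ := FinBir24.exists_generization_mem_dense (h ⁻¹ᵁ W) hW ξ
  have hle : closure {ξ} ⊆ closure {η} :=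
    closure_minimal (Set.singleton_subset_iff.2 (specializes_iff_mem_closure.1 hηξ)) isClosed_closure
  have hmem : η ∈ closure ({ξ} : Set Y) := (hξ.2 isIrreducible_singleton.closure hle) (subset_closure rfl)
  obtain rfl : ξ = η := ((specializes_iff_mem_closure.2 hmem).antisymm hηξ).eq
  exact hη

end GrothLib.CohAmple24
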