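import Groth.Agent.Lib.CohAmple24.Vanish

/-!
# Cohomological ampleness from an ample pullback on a thick open
-/

set_option autoImplicit false
set_option backward.isDefEq.respectTransparency false
set_option linter.style.haveILetI false
set_option maxHeartbeats 1000000

universe u

open AlgebraicGeometry CategoryTheory CategoryTheory.Limits TopologicalSpace Opposite

noncomputable section

namespace GrothLib.CohAmple24

variable {X Y : Scheme.{u}}

theorem nonempty_restrict_of_le {W W' : Y.Opens} (h : W ≤ W') {M N : Y.Modules}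
    (e : Nonempty (M.restrict W'.ι ≅ N.restrict W'.ι)) : Nonempty (M.restrict W.ι ≅ N.restrict W.ι) := by
  let ρ := Scheme.Modules.restrictFunctorIsoPullback W'.ι
  let σ : ∀ K : Y.Modules, (Scheme.Modules.restrictFunctor W.ι).obj K ≅
      (Scheme.Modules.pullback (Y.homOfLE h)).obj ((Scheme.Modules.pullback W'.ι).obj K) := fun K =>
    (Scheme.Modules.restrictFunctorIsoPullback W.ι).app K ≪≫
      (Scheme.Modules.pullbackCongr (Y.homOfLE_ι h).symm).app K ≪≫
      ((Scheme.Modules.pullbackComp (Y.homOfLE h) W'.ι).app K).symm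
  exact ⟨σ M ≪≫ (Scheme.Modules.pullback (Y.homOfLE h)).mapIso ((ρ.app M).symm ≪≫ e.some ≪≫ ρ.app N) ≪≫ (σ N).symm⟩

theorem mem_finLocus_of_codim (f : Y ⟶ X) [IsNoetherian X] [IsNoetherian Y] [IsProper f] (U : X.Opens)
    [IsIso (f ∣_ U)] (hU' : Dense ((f ⁻¹ᵁ U : Y.Opens) : Set Y)) {y : X}
    (hy : ringKrullDim (X.presheaf.stalk y) ≤ 1) : y ∈ FinBir24.finLocus f := by
  refine (FinBir24.mem_finLocus f).2 fun z hz => Groth.Agent.S1608.result f y hy (fun Z hZ η hη => ?_) z hz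
  obtain ⟨ξ, hξ, hξη⟩ := FinBir24.exists_generization_mem_dense (f ⁻¹ᵁ U) hU' η
  have hle : Z ≤ closure {ξ} := hη.def ▸
    closure_minimal (Set.singleton_subset_iff.2 (specializes_iff_mem_closure.1 hξη)) isClosed_closure
  have hmem : ξ ∈ Z := (hZ.2 isIrreducible_singleton.closure hle) (subset_closure rfl)
  obtain rfl : η = ξ := ((hη.specializes hmem).antisymm hξη).eq
  exact FinBir24.quasiFiniteAt_of_mem f U hξ

theorem cohAmple_of_thick {A : Type u} [CommRing A] [IsNoetherianRing A]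
    (pX : X ⟶ Spec (CommRingCat.of A)) (pY : Y ⟶ Spec (CommRingCat.of A)) [IsProper pX] [IsProper pY]
    (f : Y ⟶ X) [IsProper f]
    (U : X.Opens) (hU : Dense (U : Set X)) (hU' : Dense ((f ⁻¹ᵁ U : Y.Opens) : Set Y)) (hiso : IsIso (f ∣_ U))
    (d : ℕ) (hd : 1 ≤ d) (hX : topologicalKrullDim X = (d : WithBot ℕ∞))
    (L : Y.Modules) (hL : CohB1.IsAmple L)
    (V : X.Opens) (hV : ∀ y : X, ringKrullDim (X.presheaf.stalk y) ≤ 1 → y ∈ V)
    (F : X.Modules) (hF : Coh.IsCoh F)
    (hFL : Nonempty (((Scheme.Modules.pullback f).obj F).restrict (f ⁻¹ᵁ V).ι ≅ L.restrict (f ⁻¹ᵁ V).ι))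
    (G : X.Modules) (hG : Coh.IsCoh G) :
    ∃ n₀ : ℕ, ∀ n : ℕ, n₀ ≤ n → ∀ i : ℕ, d ≤ i →
      Subsingleton (Coh.HH X (CohB1.tensorMod G (CohB1.tensorPow F n)) i) := by
  haveI : IsNoetherian X := Nagata6.isNoetherian_of_ft pX
  haveI : IsNoetherian Y := Nagata6.isNoetherian_of_ft pY
  haveI := hiso
  haveI : IsFinite (f ∣_ (V ⊓ FinBir24.finLocus f)) :=
    FinBir24.isFinite_restrict_finLocus f inf_le_right
  exact exists_vanishing f pY U hU d hd hX L hL (V ⊓ FinBir24.finLocus f)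
    (fun y hy => ⟨hV y hy, mem_finLocus_of_codim f U hU' hy⟩) F hF
    (nonempty_restrict_of_le ((Opens.map f.base).monotone inf_le_left) hFL) G hG

end GrothLib.CohAmple24
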