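import Groth.Agent.Lib.CohAmple24.Dim
import Groth.Agent.Lib.RelVanish.Uniform
import Groth.Agent.Lib.CohPullLib.Edge
import Groth.Agent.Lib.FunMor20.ProjAffine
import Groth.Agent.Lib.OX.RRLocal
import Groth.Agent.Lib.OX.LocFreeTensor
import Groth.Agent.Lib.FormalExist7.PushTwist
import Groth.Agent.Lib.GrTilde.Mul
import Groth.Agent.Lib.TensorPerf20.FlatKernel
import Groth.Agent.S0816
import Groth.Agent.S13536

/-!
# Generically surjective maps out of tensor products, and descent of vanishing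
-/

set_option autoImplicit false
set_option backward.isDefEq.respectTransparency false
set_option linter.style.haveILetI false
set_option maxHeartbeats 1000000

universe u

open AlgebraicGeometry CategoryTheory CategoryTheory.Limits TopologicalSpace Opposite

noncomputable section

namespace GrothLib.CohAmple24

variable {X Z : Scheme.{u}} (i : Z ⟶ X) [IsClosedImmersion i] (A : X.Modules)

/-- `A ⊗ -`. -/
abbrev tA : X.Modules ⥤ X.Modules := (DCoh.tensorBi (X := X)).obj A

theorem pull_map_eq_zero_of_comp_unit {M N : X.Modules} (φ : M ⟶ N) (h : φ ≫ K0Sub.unitApp i N = 0) :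
    (Scheme.Modules.pullback i).map φ = 0 := by
  have := congrArg ((Scheme.Modules.pullbackPushforwardAdjunction i).homEquiv M _).symm h
  rw [Adjunction.homEquiv_naturality_left_symm, show ((Scheme.Modules.pullbackPushforwardAdjunction i).homEquiv N _).symm
      (K0Sub.unitApp i N) = 𝟙 _ from by
    rw [show K0Sub.unitApp i N = (Scheme.Modules.pullbackPushforwardAdjunction i).homEquiv N _ (𝟙 _) from
      ((Scheme.Modules.pullbackPushforwardAdjunction i).homEquiv_id N).symm, Equiv.symm_apply_apply],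
    Category.comp_id] at this
  rw [this, Adjunction.homEquiv_counit]
  haveI : (Scheme.Modules.pullback i).Additive :=
    (Scheme.Modules.pullbackPushforwardAdjunction i).left_adjoint_additive
  rw [Functor.map_zero, zero_comp]

theorem pull_tensor_map_eq_zero {M N : X.Modules} (φ : M ⟶ N) (h : (Scheme.Modules.pullback i).map φ = 0) :
    (Scheme.Modules.pullback i).map ((tA A).map φ) = 0 := by
  have hn := OX.pullTensorIso_natural₂ i A φ
  rw [h, Functor.map_zero, comp_zero] at hn
  rw [← cancel_mono (OX.pullTensorIso i A N).hom, zero_comp]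
  exact hn

theorem tensor_kfι_comp_unit (G : X.Modules) (n : ℕ) :
    (tA A).map (K0Sub.kfι i n G) ≫ K0Sub.unitApp i ((tA A).obj (K0Sub.kf i n G)) = 0 := by
  have h := pull_tensor_map_eq_zero i A (K0Sub.kfι i n G)
    (pull_map_eq_zero_of_comp_unit i _ (kernel.condition _))
  have hn := (Scheme.Modules.pullbackPushforwardAdjunction i).unit.naturality ((tA A).map (K0Sub.kfι i n G))
  simp only [Functor.id_map, Functor.comp_map] at hn
  refine hn.trans ?_
  haveI : (Scheme.Modules.pushforward i).Additive :=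
    (Scheme.Modules.pullbackPushforwardAdjunction i).right_adjoint_additive
  rw [h, Functor.map_zero, comp_zero]

/-- The inclusion of `Iⁿ G`. -/
def kfInc (G : X.Modules) : ∀ n, K0Sub.kf i n G ⟶ G
  | 0 => 𝟙 G
  | n + 1 => K0Sub.kfι i n G ≫ kfInc G n

theorem kfMap_inc {M N : X.Modules} (g : M ⟶ N) : ∀ n, K0Sub.kfMap i n g ≫ kfInc i N n = kfInc i M n ≫ g
  | 0 => by
      show g ≫ 𝟙 N = 𝟙 M ≫ g
      rw [Category.comp_id, Category.id_comp]
  | n + 1 => by
    rw [kfInc, kfInc, ← Category.assoc, K0Sub.kfMap_ι, Category.assoc, kfMap_inc g n, Category.assoc]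

theorem exists_lift_kf (G : X.Modules) : ∀ n, ∃ ψ : (tA A).obj (K0Sub.kf i n G) ⟶ K0Sub.kf i n ((tA A).obj G),
    ψ ≫ kfInc i _ n = (tA A).map (kfInc i G n)
  | 0 => ⟨𝟙 _, by
      show 𝟙 _ ≫ 𝟙 _ = (tA A).map (𝟙 G)
      rw [Category.id_comp, CategoryTheory.Functor.map_id]⟩
  | n + 1 => by
    obtain ⟨ψ, hψ⟩ := exists_lift_kf G n
    have hz : ((tA A).map (K0Sub.kfι i n G) ≫ ψ) ≫ K0Sub.unitApp i (K0Sub.kf i n ((tA A).obj G)) = 0 := by
      have hn := (Scheme.Modules.pullbackPushforwardAdjunction i).unit.naturality ψ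
      simp only [Functor.id_map, Functor.comp_map] at hn
      rw [Category.assoc, hn, reassoc_of% (tensor_kfι_comp_unit i A G n), zero_comp]
    refine ⟨kernel.lift _ _ hz, ?_⟩
    rw [kfInc, kfInc, ← Category.assoc]
    erw [kernel.lift_ι]
    rw [Category.assoc, hψ, ← Functor.map_comp]

variable {i A}

theorem exists_kf_isZero [IsNoetherian X] {M : X.Modules} (hM : Coh.IsCoh M)
    (hs : CohB1.support M ⊆ Set.range i) : ∃ N, IsZero (K0Sub.kf i N M) := by
  obtain ⟨κ, _, W, hW, -, hcov⟩ := QCoh.exists_finite_affine_cover (U := (⊤ : X.Opens)) (by simpa using isCompact_univ)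
  haveI := Fintype.ofFinite κ
  choose N hN using fun a => K0Sub.exists_ideal_pow_smul_eq_bot i hM hs ⟨W a, hW a⟩
  exact ⟨Finset.univ.sup N, OX.isZero_of_affine_cover (K0Sub.isCoh_kf i hM _).1 W hW
    (fun x => Opens.mem_iSup.1 (hcov (Opens.mem_top x)))
    fun a m => K0Sub.kf_sections_eq_zero i hM ⟨W a, hW a⟩ (hN a) _ (Finset.le_sup (f := N) (Finset.mem_univ a)) m⟩

theorem support_subset_of_restrict (U : X.Opens) {M : X.Modules}
    (h : IsZero ((Scheme.Modules.restrictFunctor U.ι).obj M)) : CohB1.support M ⊆ (U : Set X)ᶜ := fun x hx hxU => by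
  obtain ⟨y, rfl⟩ : x ∈ Set.range U.ι := by rw [Scheme.Opens.range_ι]; exact hxU
  refine hx ?_
  have hz : IsZero ((OX.stalk (U.ι y)).obj M) := by
    rw [IsZero.iff_id_eq_zero, ← CategoryTheory.Functor.map_id]
    exact OX.stalk_map_zero_of_restrictZero U.ι (𝟙 M) y (h.eq_of_src _ _)
  exact ModuleCat.isZero_iff_subsingleton.1 hz

theorem isZero_restrict_push {Z : Scheme.{u}} (i : Z ⟶ X) (U : X.Opens) (h : Set.range i ⊆ (U : Set X)ᶜ)
    (M : Z.Modules) : IsZero ((Scheme.Modules.restrictFunctor U.ι).obj ((Scheme.Modules.pushforward i).obj M)) := by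
  rw [IsZero.iff_id_eq_zero]
  refine Scheme.Modules.hom_ext _ _ fun W => AddCommGrpCat.hom_ext (AddMonoidHom.ext fun s => ?_)
  change (show Γ(M, i ⁻¹ᵁ (U.ι ''ᵁ W)) from s) = 0
  refine OX.section_eq_zero (M := M) _ fun z hz => ?_
  exact absurd (U.ι_image_le W hz) (h ⟨z, rfl⟩)

theorem isZero_restrict_tensor {U : X.Opens} (A C : X.Modules)
    (h : IsZero ((Scheme.Modules.restrictFunctor U.ι).obj C)) :
    IsZero ((Scheme.Modules.restrictFunctor U.ι).obj ((tA A).obj C)) :=
  (Functor.map_isZero _ (h.of_iso ((Scheme.Modules.restrictFunctorIsoPullback U.ι).app C).symm)).of_iso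
    ((Scheme.Modules.restrictFunctorIsoPullback U.ι).app _ ≪≫ OX.pullTensorIso U.ι A C)

theorem isZero_restrict_tensor_left {U : X.Opens} (A C : X.Modules)
    (h : IsZero ((Scheme.Modules.restrictFunctor U.ι).obj C)) :
    IsZero ((Scheme.Modules.restrictFunctor U.ι).obj (CohB1.tensorMod C A)) :=
  (isZero_restrict_tensor A C h).of_iso ((Scheme.Modules.restrictFunctor U.ι).mapIso (GrTilde.tensorModComm C A))

theorem isIso_restrict_kfι {Z : Scheme.{u}} (i : Z ⟶ X) [IsClosedImmersion i] (U : X.Opens)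
    (h : Set.range i ⊆ (U : Set X)ᶜ) (G : X.Modules) (n : ℕ) :
    IsIso ((Scheme.Modules.restrictFunctor U.ι).map (K0Sub.kfι i n G)) := by
  let R := Scheme.Modules.restrictFunctor U.ι
  have e := PreservesKernel.iso R (K0Sub.unitApp i (K0Sub.kf i n G))
  have h0 : R.map (K0Sub.unitApp i (K0Sub.kf i n G)) = 0 := (isZero_restrict_push i U h _).eq_of_tgt _ _
  haveI : IsIso (kernel.ι (R.map (K0Sub.unitApp i (K0Sub.kf i n G)))) := by
    haveI : Epi (kernel.ι (R.map (K0Sub.unitApp i (K0Sub.kf i n G)))) :=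
      epi_of_epi_fac (kernel.lift_ι (R.map (K0Sub.unitApp i (K0Sub.kf i n G))) (𝟙 _) (by rw [h0, comp_zero]))
    exact isIso_of_mono_of_epi _
  have he : (PreservesKernel.iso R (K0Sub.unitApp i (K0Sub.kf i n G))).hom ≫ kernel.ι _ =
      R.map (K0Sub.kfι i n G) := by
    rw [PreservesKernel.iso_hom]; exact kernelComparison_comp_ι _ _
  rw [← he]
  infer_instance

theorem isIso_restrict_kfInc {Z : Scheme.{u}} (i : Z ⟶ X) [IsClosedImmersion i] (U : X.Opens)
    (h : Set.range i ⊆ (U : Set X)ᶜ) (G : X.Modules) : ∀ n,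
    IsIso ((Scheme.Modules.restrictFunctor U.ι).map (kfInc i G n))
  | 0 => inferInstanceAs (IsIso ((Scheme.Modules.restrictFunctor U.ι).map (𝟙 G)))
  | n + 1 => by
    haveI := isIso_restrict_kfInc i U h G n
    haveI := isIso_restrict_kfι i U h G n
    show IsIso ((Scheme.Modules.restrictFunctor U.ι).map (K0Sub.kfι i n G ≫ kfInc i G n))
    rw [Functor.map_comp]
    infer_instance

theorem isIso_restrict_tensor_map (U : X.Opens) (A : X.Modules) {M N : X.Modules} (f : M ⟶ N)
    (h : IsIso ((Scheme.Modules.restrictFunctor U.ι).map f)) :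
    IsIso ((Scheme.Modules.restrictFunctor U.ι).map ((tA A).map f)) := by
  haveI : IsIso ((Scheme.Modules.pullback U.ι).map f) :=
    (NatIso.isIso_map_iff (Scheme.Modules.restrictFunctorIsoPullback U.ι) f).1 h
  refine (NatIso.isIso_map_iff (Scheme.Modules.restrictFunctorIsoPullback U.ι) _).2 ?_
  rw [(Iso.eq_comp_inv _).2 (OX.pullTensorIso_natural₂ U.ι A f)]
  infer_instance

theorem nonempty_restrict_tensor_of_trivial (U : X.Opens) {A : X.Modules}
    (eA : (Scheme.Modules.restrictFunctor U.ι).obj A ≅ Coh.structureModule (U : Scheme.{u})) (G : X.Modules) :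
    Nonempty ((Scheme.Modules.restrictFunctor U.ι).obj ((tA A).obj G) ≅
      (Scheme.Modules.restrictFunctor U.ι).obj G) :=
  let a : (Scheme.Modules.pullback U.ι).obj A ≅ Coh.structureModule (U : Scheme.{u}) :=
    ((Scheme.Modules.restrictFunctorIsoPullback U.ι).app A).symm ≪≫ eA
  let b : (Scheme.Modules.pullback U.ι).obj G ≅ (Scheme.Modules.restrictFunctor U.ι).obj G :=
    ((Scheme.Modules.restrictFunctorIsoPullback U.ι).app G).symm
  let e1 := ((DCoh.tensorBi (X := (U : Scheme.{u}))).mapIso a).app ((Scheme.Modules.pullback U.ι).obj G)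
  let e2 := ((DCoh.tensorBi (X := (U : Scheme.{u}))).obj (Coh.structureModule (U : Scheme.{u}))).mapIso b
  ⟨(Scheme.Modules.restrictFunctorIsoPullback U.ι).app _ ≪≫ OX.pullTensorIso U.ι A G ≪≫ e1 ≪≫ e2 ≪≫
    OX.tensorUnitLeftIso _⟩

theorem support_cokernel_subset (U : X.Opens) {M N : X.Modules} (f : M ⟶ N)
    (h : Epi ((Scheme.Modules.restrictFunctor U.ι).map f)) : CohB1.support (cokernel f) ⊆ (U : Set X)ᶜ := by
  haveI : (Scheme.Modules.restrictFunctor U.ι).IsLeftAdjoint :=
    (Scheme.Modules.restrictAdjunction U.ι).isLeftAdjoint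
  haveI := h
  exact support_subset_of_restrict U
    (IsZero.of_iso (isZero_cokernel_of_epi _) (PreservesCokernel.iso (Scheme.Modules.restrictFunctor U.ι) f))

theorem exists_factor (i : Z ⟶ X) [IsClosedImmersion i] (A G : X.Modules) {G' : X.Modules}
    (inc : G' ⟶ (tA A).obj G) [Mono inc] (N : ℕ) (hN : IsZero (K0Sub.kf i N (cokernel inc))) :
    ∃ l : (tA A).obj (K0Sub.kf i N G) ⟶ G', l ≫ inc = (tA A).map (kfInc i G N) := by
  obtain ⟨ψ, hψ⟩ := exists_lift_kf i A G N
  have hz : (tA A).map (kfInc i G N) ≫ cokernel.π inc = 0 := by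
    rw [← hψ, Category.assoc, ← kfMap_inc, hN.eq_of_tgt (K0Sub.kfMap i N (cokernel.π inc)) 0, zero_comp, comp_zero]
  exact ⟨(Abelian.monoIsKernelOfCokernel _ (cokernelIsCokernel inc)).lift (KernelFork.ofι _ hz),
    Fork.IsLimit.lift_ι' (Abelian.monoIsKernelOfCokernel _ (cokernelIsCokernel inc)) _ hz⟩

theorem epi_restrict_comp (U : X.Opens) {P T G' G : X.Modules} (l : P ⟶ G') (inc : G' ⟶ T) (χ : G' ⟶ G)
    (t : P ⟶ T) (hl : l ≫ inc = t) (ht : IsIso ((Scheme.Modules.restrictFunctor U.ι).map t))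
    (hinc : IsIso ((Scheme.Modules.restrictFunctor U.ι).map inc))
    (φ : (Scheme.Modules.restrictFunctor U.ι).obj T ≅ (Scheme.Modules.restrictFunctor U.ι).obj G)
    (hχ : (Scheme.Modules.restrictFunctor U.ι).map χ = (Scheme.Modules.restrictFunctor U.ι).map inc ≫ φ.hom) :
    Epi ((Scheme.Modules.restrictFunctor U.ι).map (l ≫ χ)) := by
  rw [Functor.map_comp, hχ, ← Category.assoc, ← Functor.map_comp, hl]
  infer_instance

/-- If `A` is trivial on `U`, each coherent `G` receives a map from some `A ⊗ P` which is onto over `U`. -/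
theorem exists_map_onto [IsNoetherian X] (U : X.Opens) {A : X.Modules} (hA : Coh.IsCoh A)
    (eA : (Scheme.Modules.restrictFunctor U.ι).obj A ≅ Coh.structureModule (U : Scheme.{u}))
    {G : X.Modules} (hG : Coh.IsCoh G) :
    ∃ (P : X.Modules) (χ : (tA A).obj P ⟶ G), Coh.IsCoh P ∧ CohB1.support (cokernel χ) ⊆ (U : Set X)ᶜ := by
  obtain ⟨φ⟩ := nonempty_restrict_tensor_of_trivial U eA G
  have hT : Coh.IsCoh ((tA A).obj G) := TensorPerf20.isCoh_tensor hA hG
  obtain ⟨G', inc, χ', hm, hG', hinc, hχ'⟩ := Groth.Agent.S0816.result X _ G hT hG U φ.hom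
  haveI := hm
  have hr : Set.range (complι U) = (U : Set X)ᶜ := range_complι U
  have hQs : CohB1.support (cokernel inc) ⊆ Set.range (complι U) := by
    rw [hr]
    exact support_cokernel_subset U inc (haveI := hinc; inferInstance)
  obtain ⟨N, hN⟩ := exists_kf_isZero (QCoh.isCoh_cokernel inc hG' hT) hQs
  obtain ⟨l, hl⟩ := exists_factor (complι U) A G inc N hN
  exact ⟨_, l ≫ χ', K0Sub.isCoh_kf (complι U) hG N, support_cokernel_subset U _ (epi_restrict_comp U l inc χ' _ hl
    (isIso_restrict_tensor_map U A _ (isIso_restrict_kfInc (complι U) U hr.le G N)) hinc φ hχ')⟩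

end GrothLib.CohAmple24
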