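import Groth.Agent.Lib.CohAmple24.Main
import Groth.Agent.Lib.OX.FlatLocFree

/-!
# The top cohomology functor
-/

set_option autoImplicit false
set_option backward.isDefEq.respectTransparency false
set_option linter.style.haveILetI false
set_option maxHeartbeats 1000000

universe u

open AlgebraicGeometry CategoryTheory CategoryTheory.Limits TopologicalSpace Opposite
open scoped CategoryTheory.Abelian

noncomputable section

namespace GrothLib.CohAmple24

variable {X : Scheme.{u}}

theorem subsingleton_HH_succ [IsNoetherian X] {d : ℕ} (hd : topologicalKrullDim X ≤ (d : WithBot ℕ∞))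
    (M : X.Modules) (i : ℕ) (hi : d < i) : Subsingleton (Coh.HH X M i) :=
  GVanish.subsingleton_H_of_krullDim_le d hd _ i hi

/-- In top degree a map is surjective exactly when the cohomology of its cokernel vanishes. -/
theorem surjective_iff_coker [IsNoetherian X] {d : ℕ} (hd : topologicalKrullDim X ≤ (d : WithBot ℕ∞))
    {M N : X.Modules} (a : M ⟶ N) :
    Function.Surjective (CohPull.mapH a d) ↔ Subsingleton (Coh.HH X (cokernel a) d) := by
  obtain ⟨w, hS₁⟩ := QCoh.shortExact_kernel_image a
  have hS₂ := QCoh.shortExact_image_cokernel a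
  have hT₁ := QCoh.toAbFun_map_shortExact _ hS₁
  have hT₂ := QCoh.toAbFun_map_shortExact _ hS₂
  have hK := subsingleton_HH_succ hd (kernel a) (d + 1) (Nat.lt_succ_self d)
  have hI := subsingleton_HH_succ hd (Abelian.image a) (d + 1) (Nat.lt_succ_self d)
  have hfac : Abelian.factorThruImage a ≫ Abelian.image.ι a = a := Abelian.image.fac a
  have hsurj : Function.Surjective (CohPull.mapH (Abelian.factorThruImage a) d) := fun x => by
    obtain ⟨y, hy⟩ := Abelian.Ext.covariant_sequence_exact₃ _ hT₁
      (show Abelian.Ext.{u} _ ((QCoh.toAbFun X).obj (Abelian.image a)) d from x) rfl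
      (Subsingleton.elim (α := Coh.HH X (kernel a) (d + 1)) _ _)
    exact ⟨y, hy⟩
  constructor
  · intro h
    refine subsingleton_of_forall_eq 0 fun x => ?_
    obtain ⟨y, hy⟩ := Abelian.Ext.covariant_sequence_exact₃ _ hT₂
      (show Abelian.Ext.{u} _ ((QCoh.toAbFun X).obj (cokernel a)) d from x) rfl
      (Subsingleton.elim (α := Coh.HH X (Abelian.image a) (d + 1)) _ _)
    have hy' : CohPull.mapH (cokernel.π a) d y = x := hy
    obtain ⟨z, rfl⟩ := h y
    rw [← hy', ← CohPullLib.mapH_comp, cokernel.condition]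
    exact (congrArg (fun t => Sheaf.H.map t d z) ((SheafOfModules.toSheaf X.ringCatSheaf).map_zero M (cokernel a))).trans
      ((Sheaf.H.map_apply (f := (0 : (QCoh.toAbFun X).obj M ⟶ (QCoh.toAbFun X).obj (cokernel a))) z).trans (by
        rw [Abelian.Ext.mk₀_zero, Abelian.Ext.comp_zero]))
  · intro h y
    obtain ⟨z, hz⟩ := Abelian.Ext.covariant_sequence_exact₂ _ hT₂
      (show Abelian.Ext.{u} _ ((QCoh.toAbFun X).obj N) d from y)
      (Subsingleton.elim (α := Coh.HH X (cokernel a) d) _ _)
    have hz' : CohPull.mapH (Abelian.image.ι a) d z = y := hz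
    obtain ⟨x, hx⟩ := hsurj z
    exact ⟨x, by rw [← hfac, CohPullLib.mapH_comp, hx, hz']⟩

theorem subsingleton_of_target {M N : X.Modules} (e : M ≅ N) (i : ℕ) :
    Subsingleton (Coh.HH X M i) ↔ Subsingleton (Coh.HH X N i) :=
  ⟨fun h => CMReg.subsingleton_of_iso e h, fun h => CMReg.subsingleton_of_iso e.symm h⟩

/-- If the source and the cokernel have no top cohomology, neither has the target. -/
theorem subsingleton_of_coker [IsNoetherian X] {d : ℕ} (hd : topologicalKrullDim X ≤ (d : WithBot ℕ∞))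
    {M N : X.Modules} (a : M ⟶ N) (hM : Subsingleton (Coh.HH X M d))
    (hC : Subsingleton (Coh.HH X (cokernel a) d)) : Subsingleton (Coh.HH X N d) :=
  ((surjective_iff_coker hd a).2 hC).subsingleton

theorem subsingleton_of_epi [IsNoetherian X] {d : ℕ} (hd : topologicalKrullDim X ≤ (d : WithBot ℕ∞))
    {M N : X.Modules} (a : M ⟶ N) [Epi a] (hM : Subsingleton (Coh.HH X M d)) : Subsingleton (Coh.HH X N d) :=
  subsingleton_of_coker hd a hM (GrothLib.Cohom.subsingleton_HH_of_isZero (isZero_cokernel_of_epi a) d)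

/-- Cohomology of an arbitrary module supported in codimension `m`. -/
theorem subsingleton_HH_of_stalks [IsNoetherian X] (V : X.Opens) (d m k : ℕ)
    (hd : topologicalKrullDim X = (d : WithBot ℕ∞)) (h : ∀ x, x ∉ V → (m : ℕ∞) ≤ Order.coheight x)
    (hk : d ≤ k + m) (M : X.Modules) (hM : ∀ x ∈ V, IsZero ((OX.stalk x).obj M)) (j : ℕ) (hj : k + 1 ≤ j) :
    Subsingleton (Coh.HH X M j) := by
  haveI : IsNoetherian (Scheme.IdealSheafData.vanishingIdeal (X := X) ⟨(V : Set X)ᶜ, V.isOpen.isClosed_compl⟩).subscheme :=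
    Nagata6.isNoetherian_of_ft (complι V)
  refine GVanish.subsingleton_H_of_closedEmbedding (complι V).base (complι V).isClosedEmbedding k
    (topologicalKrullDim_le_of_stalk k fun z => ?_) (Coh.toAb M) (fun x hx => ?_) j hj
  · have h1 : Order.coheight z + m ≤ ((k + m : ℕ) : ℕ∞) :=
      (coheight_add_le (complι V) m (fun w => h _ ((Set.ext_iff.1 (range_complι V) (complι V w)).1 ⟨w, rfl⟩)) z).trans
        ((coheight_le_dim d hd _).trans (Nat.cast_le.2 hk))
    rw [Nat.cast_add] at h1
    exact (ENat.add_le_add_iff_right (ENat.natCast_ne_top m)).1 h1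
  · have hxV : x ∈ V := by_contra fun h' => hx ((Set.ext_iff.1 (range_complι V) x).2 h')
    haveI : Subsingleton (M.presheaf.stalk x) :=
      show Subsingleton ((OX.stalk x).obj M) from ModuleCat.isZero_iff_subsingleton.1 (hM x hxV)
    exact AddCommGrpCat.isZero_of_subsingleton (M.presheaf.stalk x)

/-- A map of arbitrary modules which is an isomorphism on a thick open preserves top cohomology. -/
theorem subsingleton_iff_of_stalk_iso [IsNoetherian X] (d : ℕ) (hd1 : 1 ≤ d)
    (hd : topologicalKrullDim X = (d : WithBot ℕ∞)) (V : X.Opens)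
    (hV : ∀ y : X, ringKrullDim (X.presheaf.stalk y) ≤ 1 → y ∈ V) {M N : X.Modules} (t : M ⟶ N)
    (ht : ∀ x ∈ V, IsIso ((OX.stalk x).map t)) :
    Subsingleton (Coh.HH X M d) ↔ Subsingleton (Coh.HH X N d) := by
  rcases eq_or_lt_of_le hd1 with rfl | hd2
  · haveI : IsIso t := (OX.isIso_iff t).2 fun x => ht x (hV x (by
      rw [ringKrullDim_stalk_eq_coheight]
      exact WithBot.coe_le_coe.2 (by simpa using coheight_le_dim 1 hd x)))
    exact subsingleton_of_target (asIso t) 1
  · have hz : ∀ x ∈ V, IsZero ((OX.stalk x).obj (kernel t)) ∧ IsZero ((OX.stalk x).obj (cokernel t)) := fun x hx => by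
      haveI := ht x hx
      exact ⟨(isZero_kernel_of_mono _).of_iso (PreservesKernel.iso (OX.stalk x) t),
        (isZero_cokernel_of_epi _).of_iso (PreservesCokernel.iso (OX.stalk x) t)⟩
    have key : ∀ (M : X.Modules), (∀ x ∈ V, IsZero ((OX.stalk x).obj M)) → ∀ j, d - 1 ≤ j →
        Subsingleton (Coh.HH X M j) := fun M hM j hj =>
      subsingleton_HH_of_stalks V d 2 (d - 2) hd (fun x hx => two_le_coheight V hV hx) (by omega) M hM j (by omega)
    obtain ⟨w, hS₁⟩ := QCoh.shortExact_kernel_image t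
    obtain ⟨e₁⟩ := SuppIso.bijective_g hS₁ (key _ (fun x hx => (hz x hx).1) d (by omega))
      (key _ (fun x hx => (hz x hx).1) (d + 1) (by omega))
    obtain ⟨j, rfl⟩ : ∃ j, d = j + 1 := ⟨d - 1, by omega⟩
    obtain ⟨e₂⟩ := SuppIso.bijective_f (QCoh.shortExact_image_cokernel t)
      (key _ (fun x hx => (hz x hx).2) j (by omega)) (key _ (fun x hx => (hz x hx).2) (j + 1) (by omega))
    exact (e₁.trans e₂).toEquiv.subsingleton_congr

/-- Coherent modules isomorphic on a thick open have the same top cohomology. -/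
theorem subsingleton_iff_of_thick [IsNoetherian X] (d : ℕ) (hd : 1 ≤ d)
    (hdim : topologicalKrullDim X = (d : WithBot ℕ∞)) (V : X.Opens)
    (hV : ∀ y : X, ringKrullDim (X.presheaf.stalk y) ≤ 1 → y ∈ V) {M N : X.Modules} (hM : Coh.IsCoh M)
    (hN : Coh.IsCoh N) (e : Nonempty (M.restrict V.ι ≅ N.restrict V.ι)) :
    Subsingleton (Coh.HH X M d) ↔ Subsingleton (Coh.HH X N d) :=
  ⟨fun h => subsingleton_HH_of_thick d hdim hd V hV hM hN e h,
    fun h => subsingleton_HH_of_thick d hdim hd V hV hN hM ⟨e.some.symm⟩ h⟩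

end GrothLib.CohAmple24
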