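import Groth.Agent.Lib.CohAmple24.Top
import Groth.Agent.Lib.SheafCoh.ModGroth
import Groth.Agent.Lib.FlatQuot.Basic
import Groth.Agent.Lib.DirImg8.Colim
import Groth.Agent.S0838

/-!
# Top cohomology through a proper morphism which is finite in codimension one
-/

set_option autoImplicit false
set_option backward.isDefEq.respectTransparency false
set_option linter.style.haveILetI false
set_option maxHeartbeats 1000000

universe u

open AlgebraicGeometry CategoryTheory CategoryTheory.Limits TopologicalSpace Opposite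

noncomputable section

namespace GrothLib.CohAmple24

variable {X Y : Scheme.{u}} (g : Y ⟶ X) (G : Y.Modules)

/-- `M ↦ g^* M ⊗ G`. -/
abbrev phi : X.Modules ⥤ Y.Modules :=
  Scheme.Modules.pullback g ⋙ (DCoh.tensorBi (X := Y)).flip.obj G

theorem preservesCokernel_phi {P M : X.Modules} (a : P ⟶ M) : PreservesColimit (parallelPair a 0) (phi g G) := by
  haveI : PreservesColimitsOfSize.{u, u} (Scheme.Modules.pullback g) :=
    (Scheme.Modules.pullbackPushforwardAdjunction g).leftAdjoint_preservesColimits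
  haveI := OX.preservesColimitsOfSize_tensorBi_flip_obj G
  haveI : PreservesColimitsOfSize.{u, u} (phi g G) :=
    show PreservesColimitsOfSize.{u, u} (Scheme.Modules.pullback g ⋙ (DCoh.tensorBi (X := Y)).flip.obj G) from
      inferInstance
  haveI : PreservesColimitsOfSize.{0, 0} (phi g G) := preservesColimitsOfSize_shrink.{0, u, 0, u} _
  infer_instance

theorem additive_phi : (phi g G).Additive := by
  haveI : (Scheme.Modules.pullback g).Additive :=
    (Scheme.Modules.pullbackPushforwardAdjunction g).left_adjoint_additive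
  haveI : PreservesColimitsOfSize.{u, u} ((DCoh.tensorBi (X := Y)).flip.obj G) :=
    OX.preservesColimitsOfSize_tensorBi_flip_obj G
  haveI : PreservesColimitsOfSize.{0, 0} ((DCoh.tensorBi (X := Y)).flip.obj G) :=
    preservesColimitsOfSize_shrink.{0, u, 0, u} _
  haveI : ((DCoh.tensorBi (X := Y)).flip.obj G).Additive :=
    Functor.additive_of_preserves_binary_products _
  infer_instance

variable {g G}

theorem isQCoh_phi (hG : Coh.IsQCoh G) {M : X.Modules} (hM : Coh.IsQCoh M) : Coh.IsQCoh ((phi g G).obj M) :=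
  VA.isQCoh_tensor (VA.isQCoh_pullback g hM) hG

/-- Acyclic modules stay acyclic after twisting by a flat quasi-coherent module from the base. -/
theorem isZero_RpushAb_phi [QuasiCompact g] [QuasiSeparated g] [HasInjectiveResolutions Y.Modules]
    (hG : Coh.IsQCoh G) (hGa : ∀ q, 0 < q → IsZero ((Coh.Rpush g q).obj G))
    {P : X.Modules} (hP : Coh.IsQCoh P) (hPf : FlatMod.IsFlat P) (q : ℕ) :
    IsZero ((Coh.RpushAb g (q + 1)).obj (Coh.toAb ((phi g G).obj P))) := by
  have hover : FlatMod.IsFlatOver (𝟙 X) P := fun x => by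
    unfold FlatMod.IsFlatOverAt
    have h : FlatMod.moduleStalkOver (𝟙 X) P x =
        (show Module (X.presheaf.stalk ((𝟙 X : X ⟶ X).base x)) (P.presheaf.stalk x) from FlatMod.moduleStalk P x) := by
      refine Module.ext' _ _ fun r m => ?_
      show (Scheme.Hom.stalkMap (𝟙 X) x).hom r • m = (show X.presheaf.stalk x from r) • m
      rw [Scheme.Hom.stalkMap_id]
      rfl
    rw [h]
    exact hPf x
  obtain ⟨e⟩ := Groth.Agent.S0838.result g (𝟙 X) (𝟙 Y) g (IsPullback.of_id_fst) G hG P hP hover (q + 1)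
  have hz : IsZero (CohB1.tensorMod P ((Scheme.Modules.pullback (𝟙 X)).obj ((Coh.Rpush g (q + 1)).obj G))) :=
    Functor.map_isZero ((DCoh.tensorBi (X := X)).obj P)
      (Functor.map_isZero (Scheme.Modules.pullback (𝟙 X)) (hGa _ q.succ_pos))
  have h1 := hz.of_iso e.symm
  refine CohPullLib.isZero_RpushAb_of_isZero_Rpush g _ _ (h1.of_iso ((Coh.Rpush g (q + 1)).mapIso ?_))
  exact ((DCoh.tensorBi (X := Y)).obj ((Scheme.Modules.pullback g).obj P)).mapIso
    ((Scheme.Modules.pullbackId Y).app G).symm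

theorem surjective_push_iff {M N : Y.Modules} (a : M ⟶ N) (d : ℕ)
    (hM : Function.Bijective (CohPull.pushEdge g M d)) (hN : Function.Bijective (CohPull.pushEdge g N d)) :
    Function.Surjective (CohPull.mapH ((Scheme.Modules.pushforward g).map a) d) ↔
      Function.Surjective (CohPull.mapH a d) := by
  constructor
  · intro h y
    obtain ⟨x, rfl⟩ := hN.2 y
    obtain ⟨z, rfl⟩ := h x
    exact ⟨_, (CohPullLib.pushEdge_natural g a d z).symm⟩
  · intro h x
    obtain ⟨y, hy⟩ := h (CohPull.pushEdge g N d x)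
    obtain ⟨z, rfl⟩ := hM.2 y
    exact ⟨z, hN.1 ((CohPullLib.pushEdge_natural g a d z).trans hy)⟩

/-- Direct image by an affine morphism keeps epimorphisms of quasi-coherent modules. -/
theorem epi_pushforward {S T : Scheme.{u}} (h : T ⟶ S) [IsAffineHom h] {M N : T.Modules} [M.IsQuasicoherent]
    [N.IsQuasicoherent] (p : M ⟶ N) [Epi p] : Epi ((Scheme.Modules.pushforward h).map p) := by
  haveI : QuasiCompact h := inferInstance
  haveI := QCoh.isQuasicoherent_pushforward h N
  exact K0Sub.epi_of_app_surjective _ fun U => ModDesc.app_surjective_of_epi p (U.2.preimage h)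

/-- The comparison from the cokernel of direct images is an isomorphism where the map is affine. -/
theorem isIso_stalk_coker_desc [QuasiCompact g] [QuasiSeparated g] (V : X.Opens) [IsAffineHom (g ∣_ V)]
    {M N Q : Y.Modules} [M.IsQuasicoherent] [N.IsQuasicoherent] [Q.IsQuasicoherent]
    (a : M ⟶ N) (p : N ⟶ Q) [Epi p] (w : a ≫ p = 0) (hex : (ShortComplex.mk a p w).Exact) :
    ∀ x ∈ V, IsIso ((OX.stalk x).map (cokernel.desc ((Scheme.Modules.pushforward g).map a)
      ((Scheme.Modules.pushforward g).map p) (by rw [← Functor.map_comp, w]; exact (Scheme.Modules.pushforward g).map_zero _ _))) := by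
  intro x hx
  let R := Scheme.Modules.restrictFunctor V.ι
  let R' := Scheme.Modules.restrictFunctor (g ⁻¹ᵁ V).ι
  let G' := R' ⋙ Scheme.Modules.pushforward (g ∣_ V)
  let F := Scheme.Modules.pushforward g
  haveI : R'.IsLeftAdjoint := (Scheme.Modules.restrictAdjunction (g ⁻¹ᵁ V).ι).isLeftAdjoint
  haveI : R.IsLeftAdjoint := (Scheme.Modules.restrictAdjunction V.ι).isLeftAdjoint
  haveI : F.Additive := (Scheme.Modules.pullbackPushforwardAdjunction g).right_adjoint_additive
  have hK : Coh.IsQCoh (kernel p) := QCoh.isQuasicoherent_kernel p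
  haveI : (kernel p).IsQuasicoherent := hK
  haveI : (R'.obj M).IsQuasicoherent := inferInstanceAs ((M.restrict (g ⁻¹ᵁ V).ι).IsQuasicoherent)
  haveI : (R'.obj N).IsQuasicoherent := inferInstanceAs ((N.restrict (g ⁻¹ᵁ V).ι).IsQuasicoherent)
  haveI : (R'.obj Q).IsQuasicoherent := inferInstanceAs ((Q.restrict (g ⁻¹ᵁ V).ι).IsQuasicoherent)
  haveI : (R'.obj (kernel p)).IsQuasicoherent :=
    inferInstanceAs (((kernel p).restrict (g ⁻¹ᵁ V).ι).IsQuasicoherent)
  haveI : Epi (kernel.lift p a w) := hex.epi_kernelLift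
  haveI hp' : Epi (G'.map p) := epi_pushforward (g ∣_ V) (R'.map p)
  haveI hl : Epi (G'.map (kernel.lift p a w)) := epi_pushforward (g ∣_ V) (R'.map _)
  haveI : Epi ((F ⋙ R).map p) := (MorphismProperty.epimorphisms _).arrow_mk_iso_iff
    (((Functor.mapArrowFunctor _ _).mapIso (OX.pushRestrictIso g V)).app (Arrow.mk p)) |>.2 hp'
  haveI : Epi ((F ⋙ R).map (kernel.lift p a w)) := (MorphismProperty.epimorphisms _).arrow_mk_iso_iff
    (((Functor.mapArrowFunctor _ _).mapIso (OX.pushRestrictIso g V)).app (Arrow.mk (kernel.lift p a w))) |>.2 hl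
  have he1 : Epi ((OX.stalk x).map (F.map p)) :=
    OX.epi_stalk_map_of_restrict V.ι (F.map p) ⟨x, hx⟩ ‹_›
  have he2 : Epi ((OX.stalk x).map (F.map (kernel.lift p a w))) :=
    OX.epi_stalk_map_of_restrict V.ι _ ⟨x, hx⟩ ‹_›
  haveI : PreservesLimitsOfSize.{0, 0} F := by
    haveI : PreservesLimitsOfSize.{u, u} F :=
      (Scheme.Modules.pullbackPushforwardAdjunction g).rightAdjoint_preservesLimits
    exact preservesLimitsOfSize_shrink.{0, u, 0, u} _
  let S : ShortComplex (ModuleCat.{u} (X.presheaf.stalk x)) :=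
    ShortComplex.mk ((OX.stalk x).map (F.map a)) ((OX.stalk x).map (F.map p))
      (by rw [← Functor.map_comp, ← Functor.map_comp, w, Functor.map_zero, Functor.map_zero])
  have hkS : ((ShortComplex.mk (kernel.ι p) p (kernel.condition p)).map F |>.map (OX.stalk x)).Exact := by
    refine ShortComplex.exact_of_f_is_kernel _ ?_
    exact KernelFork.mapIsLimit _ (KernelFork.mapIsLimit _ (kernelIsKernel p) F) (OX.stalk x)
  have hS : S.Exact := by
    rw [ShortComplex.moduleCat_exact_iff]
    intro v hv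
    rw [ShortComplex.moduleCat_exact_iff] at hkS
    obtain ⟨k, hk⟩ := hkS v hv
    obtain ⟨m, hm⟩ := (ModuleCat.epi_iff_surjective _).1 he2 k
    refine ⟨m, ?_⟩
    show (OX.stalk x).map (F.map a) m = v
    rw [← kernel.lift_ι p a w, Functor.map_comp, Functor.map_comp, ConcreteCategory.comp_apply, hm]
    exact hk
  haveI : Epi S.g := he1
  have hc := hS.gIsCokernel
  have hc' := CokernelCofork.mapIsColimit _ (cokernelIsCokernel (F.map a)) (OX.stalk x)
  have : (OX.stalk x).map (cokernel.desc (F.map a) (F.map p) (by rw [← Functor.map_comp, w, Functor.map_zero])) =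
      (hc'.coconePointUniqueUpToIso hc).hom := by
    haveI : Epi ((OX.stalk x).map (cokernel.π (F.map a))) := inferInstance
    rw [← cancel_epi ((OX.stalk x).map (cokernel.π (F.map a))), ← Functor.map_comp, cokernel.π_desc]
    exact (IsColimit.comp_coconePointUniqueUpToIso_hom hc' hc WalkingParallelPair.one).symm
  rw [this]
  infer_instance

/-- `g_*G ⊗ M` is `g_*(g^*M ⊗ G)` where `g` is affine. -/
theorem nonempty_restrict_transfer (V : X.Opens) [IsAffineHom (g ∣_ V)] (hG : Coh.IsQCoh G) (M : X.Modules)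
    (hM : Coh.IsQCoh M) :
    Nonempty (((tA M).obj ((Scheme.Modules.pushforward g).obj G)).restrict V.ι ≅
      ((Scheme.Modules.pushforward g).obj ((phi g G).obj M)).restrict V.ι) := by
  haveI : M.IsQuasicoherent := hM
  haveI : G.IsQuasicoherent := hG
  let h := g ∣_ V
  let R := Scheme.Modules.restrictFunctor V.ι
  let j := (g ⁻¹ᵁ V).ι
  let R' := Scheme.Modules.restrictFunctor j
  haveI : (R.obj M).IsQuasicoherent := inferInstanceAs (M.restrict V.ι).IsQuasicoherent
  haveI : (R'.obj G).IsQuasicoherent := inferInstanceAs (G.restrict j).IsQuasicoherent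
  haveI := FunMor20.isIso_projHom_affine h (R'.obj G) (R.obj M)
  let pre := (Scheme.Modules.restrictFunctorIsoPullback V.ι).app _ ≪≫
    OX.pullTensorIso V.ι M ((Scheme.Modules.pushforward g).obj G) ≪≫
    ((DCoh.tensorBi (X := (V : Scheme.{u}))).mapIso
      ((Scheme.Modules.restrictFunctorIsoPullback V.ι).app M).symm).app _ ≪≫
    ((DCoh.tensorBi (X := (V : Scheme.{u}))).obj (R.obj M)).mapIso
      (((Scheme.Modules.restrictFunctorIsoPullback V.ι).app _).symm ≪≫ (OX.pushRestrictIso g V).app G)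
  let a : (Scheme.Modules.pullback h).obj (R.obj M) ≅ (Scheme.Modules.pullback j).obj ((Scheme.Modules.pullback g).obj M) :=
    (Scheme.Modules.pullback h).mapIso ((Scheme.Modules.restrictFunctorIsoPullback V.ι).app M) ≪≫
      (Scheme.Modules.pullbackComp h V.ι).app M ≪≫
      (Scheme.Modules.pullbackCongr (morphismRestrict_ι g V)).app M ≪≫
      ((Scheme.Modules.pullbackComp j g).app M).symm
  let b : (((DCoh.tensorBi (X := ((g ⁻¹ᵁ V : Y.Opens) : Scheme.{u}))).obj
        ((Scheme.Modules.pullback h).obj (R.obj M))).obj (R'.obj G)) ≅ R'.obj ((phi g G).obj M) :=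
    ((DCoh.tensorBi (X := ((g ⁻¹ᵁ V : Y.Opens) : Scheme.{u}))).mapIso a).app _ ≪≫
      ((DCoh.tensorBi (X := ((g ⁻¹ᵁ V : Y.Opens) : Scheme.{u}))).obj _).mapIso
        ((Scheme.Modules.restrictFunctorIsoPullback j).app G) ≪≫
      (OX.pullTensorIso j _ G).symm ≪≫ ((Scheme.Modules.restrictFunctorIsoPullback j).app _).symm
  exact ⟨pre ≪≫ asIso (ProjFormula.projHom h (R.obj M) (R'.obj G)) ≪≫
    (Scheme.Modules.pushforward h).mapIso b ≪≫ ((OX.pushRestrictIso g V).app _).symm⟩

/-- **Transfer.** For a `g`-acyclic `G`, the top cohomology of `g_*G ⊗ M` and of `g^*M ⊗ G` vanish together. -/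
theorem subsingleton_transfer_iff [IsNoetherian X] [IsNoetherian Y] [X.IsSeparated] [IsProper g]
    (d : ℕ) (hd : 1 ≤ d) (hX : topologicalKrullDim X = (d : WithBot ℕ∞))
    (hY : topologicalKrullDim Y ≤ (d : WithBot ℕ∞))
    (V : X.Opens) (hV : ∀ y : X, ringKrullDim (X.presheaf.stalk y) ≤ 1 → y ∈ V) [IsAffineHom (g ∣_ V)]
    [HasInjectiveResolutions Y.Modules]
    (hG : Coh.IsCoh G) (hGa : ∀ q, 0 < q → IsZero ((Coh.Rpush g q).obj G)) (M : X.Modules) (hM : Coh.IsCoh M) :
    Subsingleton (Coh.HH X ((tA M).obj ((Scheme.Modules.pushforward g).obj G)) d) ↔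
      Subsingleton (Coh.HH Y ((phi g G).obj M) d) := by
  have hdiag : ∀ V W : X.Opens, IsAffineOpen V → IsAffineOpen W → IsAffineOpen (V ⊓ W) :=
    fun V W hV hW => hV.inf hW
  haveI := hM.1
  obtain ⟨P₀, π₀, hP₀, hf₀, hπ₀⟩ := FlatQuot.exists_flat_epi hdiag M
  haveI := hπ₀
  haveI : P₀.IsQuasicoherent := hP₀
  haveI := QCoh.isQuasicoherent_kernel π₀
  obtain ⟨P₁, π₁, hP₁, hf₁, hπ₁⟩ := FlatQuot.exists_flat_epi hdiag (kernel π₀)
  haveI := hπ₁
  let Φ := phi g G
  let d₁ := π₁ ≫ kernel.ι π₀
  have w : d₁ ≫ π₀ = 0 := by simp [d₁]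
  have hex : (ShortComplex.mk d₁ π₀ w).Exact := by
    rw [ShortComplex.exact_iff_epi_kernel_lift]
    have : kernel.lift π₀ d₁ w = π₁ := by rw [← cancel_mono (kernel.ι π₀), kernel.lift_ι]
    rw [this]
    infer_instance
  haveI := additive_phi g G
  haveI := preservesCokernel_phi g G d₁
  let hcol : IsColimit (CokernelCofork.ofπ (Φ.map π₀) (by rw [← Functor.map_comp, w, Functor.map_zero])) :=
    CokernelCofork.mapIsColimit _ hex.gIsCokernel Φ
  haveI hepi : Epi (Φ.map π₀) := Cofork.IsColimit.epi hcol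
  have hex' : (ShortComplex.mk (Φ.map d₁) (Φ.map π₀) (by rw [← Functor.map_comp, w, Functor.map_zero])).Exact :=
    ShortComplex.exact_of_g_is_cokernel _ hcol
  haveI : (Φ.obj P₁).IsQuasicoherent := isQCoh_phi hG.1 hP₁
  haveI : (Φ.obj P₀).IsQuasicoherent := isQCoh_phi hG.1 hP₀
  haveI : (Φ.obj M).IsQuasicoherent := isQCoh_phi hG.1 hM.1
  have hb : ∀ P, Coh.IsQCoh P → FlatMod.IsFlat P → Function.Bijective (CohPull.pushEdge g (Φ.obj P) d) :=
    fun P hP hf => CohPullLib.pushEdge_bijective_of_RpushAb g _ (isZero_RpushAb_phi hG.1 hGa hP hf) d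
  have hco : Coh.IsCoh ((phi g G).obj M) := TensorPerf20.isCoh_tensor (ModDesc.isCoh_pullback g M hM) hG
  rw [subsingleton_iff_of_thick d hd hX V hV
      (TensorPerf20.isCoh_tensor hM (FormalExist7.isCoh_pushforward g hG))
      (FormalExist7.isCoh_pushforward g hco) (nonempty_restrict_transfer V hG.1 M hM.1),
    ← subsingleton_iff_of_stalk_iso d hd hX V hV _
      (isIso_stalk_coker_desc V (Φ.map d₁) (Φ.map π₀) _ hex'),
    ← surjective_iff_coker hX.le, surjective_push_iff _ d (hb P₁ hP₁ hf₁) (hb P₀ hP₀ hf₀),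
    surjective_iff_coker hY]
  exact subsingleton_of_target ((cokernelIsCokernel (Φ.map d₁)).coconePointUniqueUpToIso hcol) d

end GrothLib.CohAmple24
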