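import Groth.Agent.Lib.CohAmple24.Pull
import Groth.Agent.Lib.Ample.RelAmple
import Groth.Agent.Lib.SerreVanish.Ample
import Groth.Agent.Lib.OX.Support
import Groth.Agent.Lib.HomSh.Coherent

/-!
# Vanishing in the top degree through a proper morphism
-/

set_option autoImplicit false
set_option backward.isDefEq.respectTransparency false
set_option linter.style.haveILetI false
set_option maxHeartbeats 1000000

universe u

open AlgebraicGeometry CategoryTheory CategoryTheory.Limits TopologicalSpace Opposite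

noncomputable section

namespace GrothLib.CohAmple24

variable {X Y : Scheme.{u}} (f : Y ⟶ X)

theorem isZero_RpushAb_of_restrict_ample [IsProper f] [IsNoetherian X] [IsNoetherian Y] {L : Y.Modules}
    (hL : CohB1.IsAmple L) {M : Y.Modules} (hM : Coh.IsCoh M) :
    ∃ n₀ : ℕ, ∀ n, n₀ ≤ n → ∀ p, 0 < p →
      IsZero ((Coh.RpushAb f p).obj (Coh.toAb (CohB1.tensorMod M (CohB1.tensorPow L n)))) := by
  refine GrothLib.RelVanish.exists_isZero_RpushAb f hL.1 (fun W _ => ?_) hM
  haveI : CompactSpace ((f ⁻¹ᵁ W : Y.Opens) : Scheme.{u}) :=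
    isCompact_iff_compactSpace.mp (NoetherianSpace.isCompact _)
  exact (Ample.isAmple_restrict_iff _ L).2
    (Ample.isAmple_pullback_of_isEmbedding _ (f ⁻¹ᵁ W).ι.isOpenEmbedding.isEmbedding hL)

/-- `H^p(X, f_*(M ⊗ L^n)) = 0` for `p ≥ 1` and `n` large. -/
theorem exists_subsingleton_push {A : Type u} [CommRing A] [IsNoetherianRing A] (pY : Y ⟶ Spec (CommRingCat.of A))
    [IsProper pY] [IsProper f] [IsNoetherian X] [IsNoetherian Y] {L : Y.Modules}
    (hL : CohB1.IsAmple L) {M : Y.Modules} (hM : Coh.IsCoh M) :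
    ∃ n₀ : ℕ, ∀ n, n₀ ≤ n → ∀ p, 1 ≤ p →
      Subsingleton (Coh.HH X ((Scheme.Modules.pushforward f).obj (CohB1.tensorMod M (CohB1.tensorPow L n))) p) := by
  letI : Y.Over (Spec (CommRingCat.of A)) := ⟨pY⟩
  haveI : IsProper (Y ↘ Spec (CommRingCat.of A)) := inferInstanceAs (IsProper pY)
  obtain ⟨a, ha⟩ := isZero_RpushAb_of_restrict_ample f hL hM
  obtain ⟨b, hb⟩ := GrothLib.SerreVanish.exists_forall_subsingleton A hL hM
  refine ⟨max a b, fun n hn p hp => ?_⟩
  haveI := hb n ((le_max_right a b).trans hn) p hp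
  exact (CohPullLib.pushEdge_bijective_of_RpushAb f _
    (fun q => ha n ((le_max_left a b).trans hn) (q + 1) q.succ_pos) p).injective.subsingleton

/-- The structure module pushes forward to itself along an isomorphism. -/
theorem nonempty_push_structure (g : Y ⟶ X) [IsIso g] :
    Nonempty ((Scheme.Modules.pushforward g).obj (Coh.structureModule Y) ≅ Coh.structureModule X) := by
  let e : Coh.structureModule X ⟶ (Scheme.Modules.pushforward g).obj (Coh.structureModule Y) :=
    SheafOfModules.unitToPushforwardObjUnit g.toRingCatSheafHom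
  haveI : IsIso e := by
    rw [Scheme.Modules.Hom.isIso_iff_isIso_app]
    intro U
    haveI : IsIso (g.app U) := inferInstance
    rw [ConcreteCategory.isIso_iff_bijective]
    exact ConcreteCategory.bijective_of_isIso (g.app U)
  exact ⟨(asIso e).symm⟩

theorem nonempty_restrict_push_structure (U : X.Opens) [IsIso (f ∣_ U)] :
    Nonempty ((Scheme.Modules.restrictFunctor U.ι).obj ((Scheme.Modules.pushforward f).obj (Coh.structureModule Y)) ≅
      Coh.structureModule (U : Scheme.{u})) := by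
  obtain ⟨e⟩ := nonempty_push_structure (f ∣_ U)
  exact ⟨(OX.pushRestrictIso f U).app (Coh.structureModule Y) ≪≫ (Scheme.Modules.pushforward (f ∣_ U)).mapIso
    ((Scheme.Modules.restrictFunctorIsoPullback (f ⁻¹ᵁ U).ι).app _ ≪≫ OX.pullUnitIso (f ⁻¹ᵁ U).ι) ≪≫ e⟩

theorem nonempty_pullback_pow {Z W : Scheme.{u}} (g : W ⟶ Z) (F : Z.Modules) : ∀ n,
    Nonempty ((Scheme.Modules.pullback g).obj (CohB1.tensorPow F n) ≅
      CohB1.tensorPow ((Scheme.Modules.pullback g).obj F) n)
  | 0 => ⟨OX.pullUnitIso g⟩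
  | n + 1 => by
    obtain ⟨e⟩ := nonempty_pullback_pow g F n
    exact ⟨OX.pullTensorIso g (CohB1.tensorPow F n) F ≪≫
      ((DCoh.tensorBi (X := W)).mapIso e).app ((Scheme.Modules.pullback g).obj F)⟩

theorem nonempty_pow_congr {Z : Scheme.{u}} {F F' : Z.Modules} (a : F ≅ F') : ∀ n,
    Nonempty (CohB1.tensorPow F n ≅ CohB1.tensorPow F' n)
  | 0 => ⟨Iso.refl _⟩
  | n + 1 => by
    obtain ⟨e⟩ := nonempty_pow_congr a n
    exact ⟨((DCoh.tensorBi (X := Z)).mapIso e).app F ≪≫ ((DCoh.tensorBi (X := Z)).obj (CohB1.tensorPow F' n)).mapIso a⟩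

theorem isCoh_pow [IsLocallyNoetherian X] {F : X.Modules} (hF : Coh.IsCoh F) : ∀ n, Coh.IsCoh (CohB1.tensorPow F n)
  | 0 => HomSh.isCoh_structureModule X
  | n + 1 => TensorPerf20.isCoh_tensor (isCoh_pow hF n) hF

theorem nonempty_pullback_iso_on (V : X.Opens) (F : X.Modules) (L : Y.Modules)
    (hFL : Nonempty (((Scheme.Modules.pullback f).obj F).restrict (f ⁻¹ᵁ V).ι ≅ L.restrict (f ⁻¹ᵁ V).ι))
    (P : X.Modules) (n : ℕ) :
    Nonempty ((Scheme.Modules.pullback (f ∣_ V)).obj ((Scheme.Modules.restrictFunctor V.ι).obj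
        ((tA P).obj (CohB1.tensorPow F n))) ≅
      (Scheme.Modules.restrictFunctor (f ⁻¹ᵁ V).ι).obj
        ((tA ((Scheme.Modules.pullback f).obj P)).obj (CohB1.tensorPow L n))) := by
  let j := (f ⁻¹ᵁ V).ι
  let ρ := Scheme.Modules.restrictFunctorIsoPullback j
  obtain ⟨a⟩ := nonempty_pullback_pow f F n
  obtain ⟨b⟩ := nonempty_pullback_pow j ((Scheme.Modules.pullback f).obj F) n
  obtain ⟨b'⟩ := nonempty_pullback_pow j L n
  obtain ⟨c⟩ := nonempty_pow_congr ((ρ.app _).symm ≪≫ hFL.some ≪≫ ρ.app L) n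
  let σ := (Scheme.Modules.pullback (f ∣_ V)).mapIso ((Scheme.Modules.restrictFunctorIsoPullback V.ι).app
      ((tA P).obj (CohB1.tensorPow F n))) ≪≫
    (Scheme.Modules.pullbackComp (f ∣_ V) V.ι).app _ ≪≫
    (Scheme.Modules.pullbackCongr (morphismRestrict_ι f V)).app _ ≪≫
    ((Scheme.Modules.pullbackComp j f).app _).symm
  let τ := (Scheme.Modules.pullback j).mapIso (OX.pullTensorIso f P (CohB1.tensorPow F n)) ≪≫
    OX.pullTensorIso j _ _
  let e := ((DCoh.tensorBi (X := ((f ⁻¹ᵁ V : Y.Opens) : Scheme.{u}))).obj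
    ((Scheme.Modules.pullback j).obj ((Scheme.Modules.pullback f).obj P))).mapIso
      ((Scheme.Modules.pullback j).mapIso a ≪≫ b ≪≫ c ≪≫ b'.symm)
  exact ⟨σ ≪≫ τ ≪≫ e ≪≫ (OX.pullTensorIso j _ _).symm ≪≫ (ρ.app _).symm⟩

/-- Over an open where `f` is affine, `f_*O ⊗ P ⊗ F^n` is `f_*(f^*P ⊗ L^n)`. -/
theorem nonempty_restrict_iso (V : X.Opens) [IsAffineHom (f ∣_ V)] (F : X.Modules) (L : Y.Modules)
    (hFL : Nonempty (((Scheme.Modules.pullback f).obj F).restrict (f ⁻¹ᵁ V).ι ≅ L.restrict (f ⁻¹ᵁ V).ι))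
    (P : X.Modules) (n : ℕ) (hq : ((tA P).obj (CohB1.tensorPow F n)).IsQuasicoherent) :
    Nonempty (((tA ((tA P).obj (CohB1.tensorPow F n))).obj
        ((Scheme.Modules.pushforward f).obj (Coh.structureModule Y))).restrict V.ι ≅
      ((Scheme.Modules.pushforward f).obj
        ((tA ((Scheme.Modules.pullback f).obj P)).obj (CohB1.tensorPow L n))).restrict V.ι) := by
  let M := (tA P).obj (CohB1.tensorPow F n)
  haveI : M.IsQuasicoherent := hq
  let g := f ∣_ V
  let R := Scheme.Modules.restrictFunctor V.ι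
  let O := Coh.structureModule ((f ⁻¹ᵁ V : Y.Opens) : Scheme.{u})
  obtain ⟨q⟩ := nonempty_pullback_iso_on f V F L hFL P n
  haveI : (R.obj M).IsQuasicoherent := inferInstanceAs (M.restrict V.ι).IsQuasicoherent
  haveI := FunMor20.isIso_projHom_affine g O (R.obj M)
  let φ : R.obj ((Scheme.Modules.pushforward f).obj (Coh.structureModule Y)) ≅
      (Scheme.Modules.pushforward g).obj O := (OX.pushRestrictIso f V).app (Coh.structureModule Y) ≪≫
    (Scheme.Modules.pushforward g).mapIso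
      ((Scheme.Modules.restrictFunctorIsoPullback (f ⁻¹ᵁ V).ι).app _ ≪≫ OX.pullUnitIso (f ⁻¹ᵁ V).ι)
  let pre := (Scheme.Modules.restrictFunctorIsoPullback V.ι).app _ ≪≫
    OX.pullTensorIso V.ι M ((Scheme.Modules.pushforward f).obj (Coh.structureModule Y)) ≪≫
    ((DCoh.tensorBi (X := (V : Scheme.{u}))).mapIso
      ((Scheme.Modules.restrictFunctorIsoPullback V.ι).app M).symm).app _ ≪≫
    ((DCoh.tensorBi (X := (V : Scheme.{u}))).obj (R.obj M)).mapIso
      (((Scheme.Modules.restrictFunctorIsoPullback V.ι).app _).symm ≪≫ φ)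
  let unitR := ((DCoh.tensorBi (X := ((f ⁻¹ᵁ V : Y.Opens) : Scheme.{u}))).obj
      ((Scheme.Modules.pullback g).obj (R.obj M))).obj O
  let η : unitR ≅ (Scheme.Modules.pullback g).obj (R.obj M) :=
    GrTilde.tensorModComm _ O ≪≫ OX.tensorUnitLeftIso _
  exact ⟨pre ≪≫ asIso (ProjFormula.projHom g (R.obj M) O) ≪≫
    (Scheme.Modules.pushforward g).mapIso (η ≪≫ q) ≪≫ ((OX.pushRestrictIso f V).app _).symm⟩

theorem subsingleton_X₃ {S : ShortComplex X.Modules} (hS : S.ShortExact) {i : ℕ}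
    (h₂ : Subsingleton (Coh.HH X S.X₂ i)) (h₁' : Subsingleton (Coh.HH X S.X₁ (i + 1))) :
    Subsingleton (Coh.HH X S.X₃ i) := by
  have hT := QCoh.toAbFun_map_shortExact S hS
  refine subsingleton_of_forall_eq 0 fun x => ?_
  obtain ⟨y, hy⟩ := Abelian.Ext.covariant_sequence_exact₃ _ hT
    (show Abelian.Ext.{u} _ (S.map (QCoh.toAbFun X)).X₃ i from x) rfl
    (Subsingleton.elim (α := Coh.HH X S.X₁ (i + 1)) _ _)
  obtain rfl : y = 0 := Subsingleton.elim (α := Coh.HH X S.X₂ i) y 0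
  rw [Abelian.Ext.zero_comp] at hy
  exact hy.symm

/-- A map with small cokernel is surjective in top degree. -/
theorem subsingleton_HH_of_map [IsNoetherian X] (d : ℕ) (hdim : topologicalKrullDim X = (d : WithBot ℕ∞))
    (hd : 1 ≤ d) (U : X.Opens) (hU : Dense (U : Set X)) {M N : X.Modules} (hM : Coh.IsCoh M) (hN : Coh.IsCoh N)
    (g : M ⟶ N) (hg : CohB1.support (cokernel g) ⊆ (U : Set X)ᶜ) (h : Subsingleton (Coh.HH X M d)) :
    Subsingleton (Coh.HH X N d) := by
  haveI : IsNoetherian (Scheme.IdealSheafData.vanishingIdeal (X := X) ⟨(U : Set X)ᶜ, U.isOpen.isClosed_compl⟩).subscheme :=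
    Nagata6.isNoetherian_of_ft (complι U)
  have hcd : ∀ G, Coh.IsQCoh G → ∀ j, d - 1 + 1 ≤ j → Subsingleton (Coh.HH _ G j) := fun G _ j hj =>
    subsingleton_HH_closed (complι U) d 1 (d - 1) hdim (fun z => by
      refine one_le_coheight U hU ?_
      have := (Set.ext_iff.1 (range_complι U) (complι U z)).1 ⟨z, rfl⟩
      exact this) (by omega) G j hj
  have hC : Subsingleton (Coh.HH X (cokernel g) d) :=
    SuppIso.subsingleton_HH_of_supp (complι U) (d - 1) hcd (QCoh.isCoh_cokernel g hM hN)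
      (by rw [range_complι U]; exact hg) d (by omega)
  obtain ⟨w, hS₁⟩ := QCoh.shortExact_kernel_image g
  have hK : Subsingleton (Coh.HH X (kernel g) (d + 1)) :=
    GVanish.subsingleton_H_of_krullDim_le d hdim.le _ (d + 1) (Nat.lt_succ_self d)
  refine CMReg.subsingleton_X₂ (QCoh.shortExact_image_cokernel g) ?_ hC
  exact subsingleton_X₃ hS₁ h hK

/-- A module isomorphic to an acyclic one outside codimension two is acyclic in top degree. -/
theorem subsingleton_HH_of_thick [IsNoetherian X] (d : ℕ) (hdim : topologicalKrullDim X = (d : WithBot ℕ∞))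
    (hd : 1 ≤ d) (V : X.Opens) (hV : ∀ y : X, ringKrullDim (X.presheaf.stalk y) ≤ 1 → y ∈ V)
    {M N : X.Modules} (hM : Coh.IsCoh M) (hN : Coh.IsCoh N) (e : Nonempty (M.restrict V.ι ≅ N.restrict V.ι))
    (h : Subsingleton (Coh.HH X M d)) : Subsingleton (Coh.HH X N d) := by
  rcases eq_or_lt_of_le hd with rfl | hd2
  · have hVtop : V = ⊤ := top_le_iff.1 fun y _ => hV y (by
      rw [ringKrullDim_stalk_eq_coheight]
      exact WithBot.coe_le_coe.2 (by simpa using coheight_le_dim 1 hdim y))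
    obtain ⟨G, p, q, -, hp, hq⟩ := SuppIso.exists_roof V hM hN e.some
    haveI := OX.isIso_of_restrict_cover p (fun _ : Unit => V) (fun y => ⟨(), by rw [hVtop]; trivial⟩) fun _ => hp
    haveI := OX.isIso_of_restrict_cover q (fun _ : Unit => V) (fun y => ⟨(), by rw [hVtop]; trivial⟩) fun _ => hq
    exact CMReg.subsingleton_of_iso ((asIso p).symm ≪≫ asIso q) h
  · haveI : IsNoetherian (Scheme.IdealSheafData.vanishingIdeal (X := X) ⟨(V : Set X)ᶜ, V.isOpen.isClosed_compl⟩).subscheme :=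
      Nagata6.isNoetherian_of_ft (complι V)
    have hcd : ∀ G, Coh.IsQCoh G → ∀ j, d - 2 + 1 ≤ j → Subsingleton (Coh.HH _ G j) := fun G _ j hj =>
      subsingleton_HH_closed (complι V) d 2 (d - 2) hdim (fun z =>
        two_le_coheight V hV ((Set.ext_iff.1 (range_complι V) (complι V z)).1 ⟨z, rfl⟩)) (by omega) G j hj
    obtain ⟨E⟩ := Groth.Agent.S13536.result X (complι V) (d - 2) hcd V (by rw [range_complι V, compl_compl])
      M N hM hN e d (by omega)
    exact E.symm.injective.subsingleton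

theorem support_cokernel_tensor (U : X.Opens) {M N : X.Modules} (χ : M ⟶ N)
    (h : CohB1.support (cokernel χ) ⊆ (U : Set X)ᶜ) (B : X.Modules) :
    CohB1.support (cokernel ((tA B).map χ)) ⊆ (U : Set X)ᶜ := by
  haveI : PreservesColimitsOfSize.{0, 0} (tA B) := preservesColimitsOfSize_shrink.{0, u, 0, u} _
  let R := Scheme.Modules.restrictFunctor U.ι
  have hz : IsZero (R.obj (cokernel χ)) := OX.isZero_restrict_of_support U.ι fun y hy => h hy y.2
  exact support_subset_of_restrict U ((isZero_restrict_tensor B _ hz).of_iso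
    (R.mapIso (PreservesCokernel.iso (tA B) χ).symm))

theorem exists_vanishing {A : Type u} [CommRing A] [IsNoetherianRing A] [IsNoetherian X] [IsNoetherian Y]
    (pY : Y ⟶ Spec (CommRingCat.of A)) [IsProper pY] [IsProper f]
    (U : X.Opens) (hU : Dense (U : Set X)) [IsIso (f ∣_ U)]
    (d : ℕ) (hd : 1 ≤ d) (hX : topologicalKrullDim X = (d : WithBot ℕ∞))
    (L : Y.Modules) (hL : CohB1.IsAmple L)
    (V : X.Opens) (hV : ∀ y : X, ringKrullDim (X.presheaf.stalk y) ≤ 1 → y ∈ V) [IsAffineHom (f ∣_ V)]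
    (F : X.Modules) (hF : Coh.IsCoh F)
    (hFL : Nonempty (((Scheme.Modules.pullback f).obj F).restrict (f ⁻¹ᵁ V).ι ≅ L.restrict (f ⁻¹ᵁ V).ι))
    (G : X.Modules) (hG : Coh.IsCoh G) :
    ∃ n₀ : ℕ, ∀ n : ℕ, n₀ ≤ n → ∀ i : ℕ, d ≤ i →
      Subsingleton (Coh.HH X (CohB1.tensorMod G (CohB1.tensorPow F n)) i) := by
  let O := (Scheme.Modules.pushforward f).obj (Coh.structureModule Y)
  have hO : Coh.IsCoh O := FormalExist7.isCoh_pushforward f (HomSh.isCoh_structureModule Y)
  obtain ⟨eA⟩ := nonempty_restrict_push_structure f U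
  obtain ⟨P, χ, hP, hχ⟩ := exists_map_onto U hO eA hG
  have hfP := ModDesc.isCoh_pullback f P hP
  obtain ⟨n₀, hn₀⟩ := exists_subsingleton_push f pY hL hfP
  refine ⟨n₀, fun n hn i hi => ?_⟩
  rcases eq_or_lt_of_le hi with rfl | hi'
  swap
  · exact GVanish.subsingleton_H_of_krullDim_le d hX.le _ i hi'
  let B := CohB1.tensorPow F n
  have hB : Coh.IsCoh B := isCoh_pow hF n
  have hPB : Coh.IsCoh ((tA P).obj B) := TensorPerf20.isCoh_tensor hP hB
  have hOP : Coh.IsCoh ((tA O).obj P) := TensorPerf20.isCoh_tensor hO hP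
  have hS : Coh.IsCoh ((tA ((tA P).obj B)).obj O) := TensorPerf20.isCoh_tensor hPB hO
  have hT : Coh.IsCoh ((Scheme.Modules.pushforward f).obj
      ((tA ((Scheme.Modules.pullback f).obj P)).obj (CohB1.tensorPow L n))) :=
    FormalExist7.isCoh_pushforward f (TensorPerf20.isCoh_tensor hfP (isCoh_pow
      (Euler.isCoh_of_isFinLocFree (Euler.isFinLocFree_of_isInvertible hL.1)) n))
  have h1 : Subsingleton (Coh.HH X ((tA ((tA P).obj B)).obj O) d) := by
    obtain ⟨e⟩ := nonempty_restrict_iso f V F L hFL P n hPB.1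
    exact subsingleton_HH_of_thick d hX hd V hV hT hS ⟨e.symm⟩ (hn₀ n hn d hd)
  have e2 : (tA B).obj ((tA O).obj P) ≅ (tA ((tA P).obj B)).obj O :=
    GrTilde.tensorModComm B _ ≪≫ OX.tensorAssoc O P B ≪≫ GrTilde.tensorModComm O _
  have h2 := subsingleton_HH_of_map d hX hd U hU (TensorPerf20.isCoh_tensor hB hOP)
    (TensorPerf20.isCoh_tensor hB hG) ((tA B).map χ) (support_cokernel_tensor U χ hχ B)
    (CMReg.subsingleton_of_iso e2.symm h1)
  exact CMReg.subsingleton_of_iso (GrTilde.tensorModComm B G) h2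

end GrothLib.CohAmple24
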